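import Cfsg.Agent.Lib.FirstPower.SmallDegree.Galois

/-!
# Periods of index two
-/

namespace Cfsg.Agent.Lib.FirstPower.SmallDegree

open Periods
open scoped ComplexConjugate

variable {p : ℕ} [Fact p.Prime] {E : Subgroup (ZMod p)ˣ}

theorem mem_of_pow_card {u : (ZMod p)ˣ} (hu : u ^ Nat.card E = 1) : u ∈ E := by
  classical
  have hle : E ≤ (powMonoidHom (Nat.card E) : (ZMod p)ˣ →* (ZMod p)ˣ).ker := fun v hv => by
    rw [MonoidHom.mem_ker, powMonoidHom_apply]
    have := pow_card_eq_one' (G := E) (x := ⟨v, hv⟩)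
    exact congrArg Subtype.val this
  have heq := Subgroup.eq_of_le_of_card_ge hle (by
    rw [IsCyclic.card_powMonoidHom_ker,
      Nat.gcd_eq_right (Subgroup.card_subgroup_dvd_card E)])
  rw [heq, MonoidHom.mem_ker, powMonoidHom_apply]
  exact hu

theorem conj_eta (q : (ZMod p)ˣ ⧸ E) :
    conj (Periods.eta E q) = Periods.eta E (q * QuotientGroup.mk (-1)) := by
  classical
  rw [Periods.eta, map_sum, Periods.eta]
  refine Finset.sum_bij (fun v _ => v * -1) ?_ (fun _ _ _ _ h => mul_right_cancel h) ?_ ?_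
  · intro v hv
    rw [Finset.mem_filter] at hv ⊢
    exact ⟨Finset.mem_univ _, by rw [QuotientGroup.mk_mul, hv.2]⟩
  · intro v hv
    rw [Finset.mem_filter] at hv
    refine ⟨v * -1, Finset.mem_filter.mpr ⟨Finset.mem_univ _, ?_⟩, by simp⟩
    rw [QuotientGroup.mk_mul, hv.2, mul_assoc, ← QuotientGroup.mk_mul]
    simp
  · intro v _
    rw [conj_chr, mul_neg_one, Units.val_neg]

theorem neg_one_mem (he : Even (Nat.card E)) : (-1 : (ZMod p)ˣ) ∈ E :=
  mem_of_pow_card (he.neg_one_pow)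

theorem neg_one_not_mem (hp : p ≠ 2) (he : Odd (Nat.card E)) : (-1 : (ZMod p)ˣ) ∉ E := by
  intro h
  have h1 := congrArg Subtype.val (pow_card_eq_one' (G := E) (x := ⟨-1, h⟩))
  rw [Subgroup.coe_pow, he.neg_one_pow, Subgroup.coe_one] at h1
  have h2 := congrArg (fun v : (ZMod p)ˣ => (v : ZMod p)) h1
  simp only [Units.val_neg, Units.val_one] at h2
  haveI : Fact (2 < p) := ⟨lt_of_le_of_ne (Fact.out : p.Prime).two_le hp.symm⟩
  exact ZMod.neg_one_ne_one h2

theorem eta_real (he : Even (Nat.card E)) (q : (ZMod p)ˣ ⧸ E) :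
    conj (Periods.eta E q) = Periods.eta E q := by
  rw [conj_eta, (QuotientGroup.eq_one_iff _).mpr (neg_one_mem he), mul_one]

variable [Fintype ((ZMod p)ˣ ⧸ E)] [Fintype E]

theorem two_class (h2 : Fintype.card ((ZMod p)ˣ ⧸ E) = 2) {q r : (ZMod p)ˣ ⧸ E} (hqr : q ≠ r) :
    Periods.eta E q + Periods.eta E r = -1 ∧
      Periods.eta E q * conj (Periods.eta E q) + Periods.eta E r * conj (Periods.eta E r) =
        (p : ℂ) - Fintype.card E := by
  classical
  have huniv : (Finset.univ : Finset ((ZMod p)ˣ ⧸ E)) = {q, r} :=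
    (Finset.eq_univ_of_card _ (by rw [Finset.card_pair hqr, h2])).symm
  have h1 := Periods.sum_eta (E := E)
  have h3 := Periods.sum_eta_mul_conj (E := E) 1 1
  rw [huniv, Finset.sum_pair hqr] at h1
  simp only [mul_one, huniv, Finset.sum_pair hqr, if_true] at h3
  exact ⟨h1, h3⟩

theorem exists_other (h2 : Fintype.card ((ZMod p)ˣ ⧸ E) = 2) (q : (ZMod p)ˣ ⧸ E) :
    ∃ r, q ≠ r ∧ ∀ s, s ≠ q → s = r := by
  classical
  obtain ⟨r, hr⟩ := Fintype.exists_ne_of_one_lt_card (by omega) q
  refine ⟨r, hr.symm, fun s hs => ?_⟩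
  by_contra hne
  have h := Finset.card_le_univ ({q, r, s} : Finset ((ZMod p)ˣ ⧸ E))
  rw [Finset.card_eq_three.mpr ⟨q, r, s, hr.symm, hs.symm, Ne.symm hne, rfl⟩, h2] at h
  omega

/-- Odd order: the two periods are conjugate. -/
theorem odd_case (h2 : Fintype.card ((ZMod p)ˣ ⧸ E) = 2) {L : ℕ}
    (hL : Nat.card E = 2 * L + 1) (q : (ZMod p)ˣ ⧸ E) :
    Periods.eta E q * conj (Periods.eta E q) = (L + 1 : ℕ) ∧
      Periods.eta E q ^ 2 = -Periods.eta E q - (L + 1 : ℕ) := by
  have hte := Periods.card_mul_card (E := E)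
  rw [Nat.card_eq_fintype_card] at hL
  rw [h2, hL] at hte
  have hp2 : p ≠ 2 := by omega
  set r := q * QuotientGroup.mk (-1 : (ZMod p)ˣ) with hr
  have hqr : q ≠ r := by
    intro h
    rw [hr, left_eq_mul, QuotientGroup.eq_one_iff] at h
    exact neg_one_not_mem hp2 (by rw [Nat.card_eq_fintype_card, hL]; exact odd_two_mul_add_one L) h
  obtain ⟨hs, hn⟩ := two_class h2 hqr
  have hc : conj (Periods.eta E q) = Periods.eta E r := conj_eta q
  have hc' : conj (Periods.eta E r) = Periods.eta E q := by rw [← hc, Complex.conj_conj]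
  have hp : (p : ℂ) = 2 * (2 * L + 1) + 1 := by
    have : p = 2 * (2 * L + 1) + 1 := by omega
    exact_mod_cast this
  rw [hc, hc', mul_comm (Periods.eta E r), hL, hp] at hn
  push_cast at hn ⊢
  rw [hc]
  constructor
  · linear_combination hn / 2
  · linear_combination (Periods.eta E q) * hs - hn / 2

/-- Even order: the two periods are real. -/
theorem even_case (h2 : Fintype.card ((ZMod p)ˣ ⧸ E) = 2) {h : ℕ}
    (hh : Nat.card E = 2 * h) (q : (ZMod p)ˣ ⧸ E) :
    Periods.eta E q ^ 2 = -Periods.eta E q + (h : ℕ) ∧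
      ∀ r, r ≠ q → Periods.eta E q * Periods.eta E r = -(h : ℂ) := by
  have hev : Even (Nat.card E) := ⟨h, by omega⟩
  have hte := Periods.card_mul_card (E := E)
  rw [Nat.card_eq_fintype_card] at hh
  rw [h2, hh] at hte
  have := (Fact.out : p.Prime).two_le
  have hp : (p : ℂ) = 2 * (2 * h) + 1 := by
    have : p = 2 * (2 * h) + 1 := by omega
    exact_mod_cast this
  have key : ∀ r, q ≠ r → Periods.eta E q * Periods.eta E r = -(h : ℂ) ∧
      Periods.eta E q ^ 2 = -Periods.eta E q + (h : ℕ) := by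
    intro r hqr
    obtain ⟨hs, hn⟩ := two_class h2 hqr
    rw [eta_real hev, eta_real hev, hh, hp] at hn
    push_cast at hn ⊢
    constructor
    · linear_combination ((Periods.eta E q + Periods.eta E r - 1) * hs - hn) / 2
    · linear_combination (Periods.eta E q) * hs -
        ((Periods.eta E q + Periods.eta E r - 1) * hs - hn) / 2
  obtain ⟨r, hqr, -⟩ := exists_other h2 q
  exact ⟨(key r hqr).2, fun s hs => (key s hs.symm).1⟩

end Cfsg.Agent.Lib.FirstPower.SmallDegree
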