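import Cfsg.Agent.Lib.Characters.Complete
import Cfsg.Agent.Lib.Characters.Diag
import Cfsg.Agent.Lib.Characters.Kernel
import Cfsg.Agent.Lib.Induced.Integral
import Cfsg.Agent.Lib.DegreeBounds.Basic

/-!
# Parity of the central characters at an involution

For an involution `v` the numbers `w χ = |v^G| χ(v) / χ(1)` are integers, and the sum of
`χ(1) χ(x)` over the `χ` with `w χ` odd is divisible by the `2`-part of `|G|`.
-/

namespace Cfsg.Agent.Lib.FirstPower.SmallDegree

open Cfsg.Agent.Lib Cfsg.Agent.Lib.Characters.Basic Cfsg.Agent.Lib.Characters.Complete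

universe u

variable {G : Type u} [Group G] [Finite G]

theorem int_of_isIntegral {a : ℂ} {n : ℕ} {z : ℤ} (hint : IsIntegral ℤ a) (hn : n ≠ 0)
    (he : (n : ℂ) * a = z) : ∃ w : ℤ, a = w := by
  have hq : a = ((z / n : ℚ) : ℂ) := by
    push_cast
    rw [eq_div_iff (Nat.cast_ne_zero.mpr hn), mul_comm, he]
  obtain ⟨w, hw⟩ := IsIntegrallyClosed.isIntegral_iff.mp
    ((isIntegral_algebraMap_iff (B := ℂ) (algebraMap ℚ ℂ).injective).mp
      (by simpa [hq] using hint : IsIntegral ℤ (algebraMap ℚ ℂ (z / n : ℚ))))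
  refine ⟨w, ?_⟩
  rw [hq, ← hw]
  simp

/-- The value at an involution is an integer of the parity of the degree. -/
theorem exists_int_parity (χ : Cfsg.IrrCharacter G) {v : G} (hv : v * v = 1) :
    ∃ a : ℤ, (χ : G → ℂ) v = a ∧ 2 ∣ (a - (Cfsg.charDegree (χ : G → ℂ) : ℤ)) := by
  obtain ⟨n, ρ, -, hχ⟩ := exists_rep χ
  obtain ⟨ι, hι, b, ζ, hζ, hcard, htr⟩ :=
    Characters.Diag.exists_eigenbasis ρ v two_ne_zero (by rw [pow_two, hv])
  have : ∀ i, ∃ c : ℤ, ζ i = c ∧ 2 ∣ c - 1 := fun i => by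
    rcases sq_eq_one_iff.1 (hζ i).2 with h | h
    · exact ⟨1, by simp [h]⟩
    · exact ⟨-1, by simp [h]⟩
  choose c hc hc2 using this
  have hdeg : Cfsg.charDegree (χ : G → ℂ) = Fintype.card ι := by
    rw [hcard]
    have h := DegreeBounds.Basic.charDegree_irr χ
    rw [← hχ, Representation.char_one] at h
    rw [← hχ]
    exact_mod_cast h.symm
  refine ⟨∑ i, c i, by rw [← hχ, htr]; simp [hc], ?_⟩
  rw [hdeg, ← Finset.card_univ, Finset.card_eq_sum_ones, Nat.cast_sum, ← Finset.sum_sub_distrib]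
  exact Finset.dvd_sum fun i _ => by simpa using hc2 i

/-- The defining property of the central character at `v`. -/
def IsOmega (v : G) (χ : Cfsg.IrrCharacter G) (w : ℤ) : Prop :=
  ((Subgroup.centralizer ({v} : Set G)).index : ℂ) * (χ : G → ℂ) v =
    (w : ℂ) * (Cfsg.charDegree (χ : G → ℂ) : ℂ)

theorem exists_omega (χ : Cfsg.IrrCharacter G) {v : G} (hv : v * v = 1) :
    ∃ w : ℤ, IsOmega v χ w := by
  obtain ⟨a, ha, -⟩ := exists_int_parity χ hv
  obtain ⟨n, ρ, hρ, hχ⟩ := exists_rep χ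
  haveI := hρ
  have h := Induced.Integral.isIntegral_centralCharacter ρ v
  have hd : (Module.finrank ℂ (Fin n → ℂ) : ℂ) = (Cfsg.charDegree (χ : G → ℂ) : ℂ) := by
    rw [← DegreeBounds.Basic.charDegree_irr, ← hχ, Representation.char_one]
  rw [hχ, hd, ha] at h
  have hd0 := (DegreeBounds.Basic.charDegree_pos χ).ne'
  obtain ⟨w, hw⟩ := int_of_isIntegral
    (z := ((Subgroup.centralizer ({v} : Set G)).index : ℤ) * a) h hd0 (by
      rw [mul_div_cancel₀ _ (Nat.cast_ne_zero.mpr hd0)]; push_cast; rfl)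
  refine ⟨w, ?_⟩
  rw [IsOmega, ← hw, ha, div_mul_cancel₀ _ (Nat.cast_ne_zero.mpr hd0)]

/-- Odd degree and odd class size give an odd central character. -/
theorem odd_omega (χ : Cfsg.IrrCharacter G) {v : G} (hv : v * v = 1) {w : ℤ}
    (hw : IsOmega v χ w) (hd : Odd (Cfsg.charDegree (χ : G → ℂ)))
    (hidx : Odd (Subgroup.centralizer ({v} : Set G)).index) : Odd w := by
  obtain ⟨a, ha, k, hk⟩ := exists_int_parity χ hv
  rw [IsOmega, ha] at hw
  have h : ((Subgroup.centralizer ({v} : Set G)).index : ℤ) * a =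
      w * (Cfsg.charDegree (χ : G → ℂ) : ℤ) := by exact_mod_cast hw
  have hodd : Odd a := by
    rw [show a = (Cfsg.charDegree (χ : G → ℂ) : ℤ) + 2 * k by omega]
    exact ((Int.odd_coe_nat _).mpr hd).add_even (even_two_mul k)
  have := ((Int.odd_coe_nat _).mpr hidx).mul hodd
  rw [h] at this
  exact (Int.odd_mul.mp this).1

/-- A character of two-power degree vanishes at a central involution of a Sylow 2-subgroup. -/
theorem omega_eq_zero [IsSimpleGroup G] (hz : Subgroup.center G = ⊥) (χ : Cfsg.IrrCharacter G)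
    {i : ℕ} (hi : i ≠ 0) (hd : Cfsg.charDegree (χ : G → ℂ) = 2 ^ i) {v : G} (hv1 : v ≠ 1)
    (hidx : Odd (Subgroup.centralizer ({v} : Set G)).index) {w : ℤ} (hw : IsOmega v χ w) :
    w = 0 := by
  obtain ⟨n, ρ, hρ, hχ⟩ := exists_rep χ
  haveI := hρ
  have hfr : Module.finrank ℂ (Fin n → ℂ) = 2 ^ i := by
    have h := DegreeBounds.Basic.charDegree_irr χ
    rw [← hχ, Representation.char_one, hχ, hd] at h
    exact_mod_cast h
  have hzero : (χ : G → ℂ) v = 0 := by
    rw [← hχ]
    refine (Induced.Integral.zero_or_norm_eq_of_coprime ρ v ?_).resolve_right fun hnorm => ?_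
    · rw [hfr]; exact (Nat.coprime_two_left.mpr hidx).pow_left i
    · obtain ⟨c, hc⟩ := Induced.Integral.scalar_of_norm_character_eq ρ hnorm
      refine hv1 (Subgroup.mem_bot.mp (hz ▸ Subgroup.mem_center_iff.mpr fun y => ?_))
      set k := (v * y)⁻¹ * (y * v) with hk
      have hρk : ρ k = 1 := by
        have hcomm : ρ (y * v) = ρ (v * y) := by
          rw [map_mul, map_mul, hc]; ext u; simp
        rw [hk, map_mul, hcomm, ← map_mul, inv_mul_cancel, map_one]
      have hχk : (χ : G → ℂ) k = (χ : G → ℂ) 1 := by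
        rw [← hχ]
        show LinearMap.trace ℂ _ (ρ k) = LinearMap.trace ℂ _ (ρ 1)
        rw [hρk, map_one ρ]
      have hmem : k ∈ Characters.Kernel.charKer (isCharacter_irr χ) :=
        (Characters.Kernel.mem_charKer _ k).mpr hχk
      have hne : ∃ g, (χ : G → ℂ) g ≠ (χ : G → ℂ) 1 := by
        by_contra hall
        push Not at hall
        have h1 : (χ : G → ℂ) * (fun g => starRingEnd ℂ ((χ : G → ℂ) g)) =
            fun _ => (((2 ^ i) ^ 2 : ℕ) : ℂ) := funext fun g => by
          simp only [Pi.mul_apply, hall g, DegreeBounds.Basic.charDegree_irr, hd, map_natCast]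
          push_cast; ring
        let _ := Fintype.ofFinite G
        have h2 := classInner_self_irr χ
        rw [Cfsg.classInner,
          Finset.sum_congr rfl (fun g _ => show (χ : G → ℂ) g * starRingEnd ℂ ((χ : G → ℂ) g) = _
            from congrFun h1 g), Finset.sum_const, Finset.card_univ,
          ← Nat.card_eq_fintype_card, nsmul_eq_mul, inv_mul_cancel_left₀
            (Nat.cast_ne_zero.mpr Nat.card_pos.ne')] at h2
        have h3 : (2 ^ i) ^ 2 = 1 := by exact_mod_cast h2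
        simp [Nat.pow_eq_one, hi] at h3
      obtain ⟨g, hg⟩ := hne
      rw [Characters.Kernel.charKer_eq_bot_of_simple _ hg, Subgroup.mem_bot] at hmem
      exact (inv_mul_eq_one.mp hmem).symm
  rw [IsOmega, hzero, mul_zero, eq_comm, mul_eq_zero] at hw
  rcases hw with h | h
  · exact_mod_cast h
  · exact absurd (Nat.cast_eq_zero.mp h) (DegreeBounds.Basic.charDegree_pos χ).ne'

open scoped Classical in
/-- Powers of the central characters count tuples. -/
theorem exists_count [Fintype (Cfsg.IrrCharacter G)] {v : G} (hv : v * v = 1)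
    {w : Cfsg.IrrCharacter G → ℤ} (hw : ∀ χ, IsOmega v χ (w χ)) (N : ℕ) :
    ∀ y : G, ∃ z : ℤ, ∑ χ : Cfsg.IrrCharacter G, (w χ : ℂ) ^ N *
      ((χ : G → ℂ) 1 * (χ : G → ℂ) y) = (Nat.card G : ℂ) * z := by
  have := Fintype.ofFinite G
  induction N with
  | zero =>
    intro y
    refine ⟨if y = 1 then 1 else 0, ?_⟩
    simp only [pow_zero, one_mul]
    rw [sum_degree_mul_apply]
    split_ifs <;> simp
  | succ N ih =>
    intro y
    choose z hz using ih
    refine ⟨∑ g ∈ Finset.univ.filter (IsConj v), z (g⁻¹ * y), ?_⟩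
    rw [Int.cast_sum, Finset.mul_sum, Finset.sum_congr rfl fun g _ => (hz _).symm, Finset.sum_comm]
    refine Finset.sum_congr rfl fun χ _ => ?_
    rw [← Finset.mul_sum, ← Finset.mul_sum, pow_succ]
    suffices h : ∑ g ∈ Finset.univ.filter (IsConj v), (χ : G → ℂ) (g⁻¹ * y) =
        (w χ : ℂ) * (χ : G → ℂ) y by rw [h]; ring
    set θ : G → ℂ := fun g => if IsConj v g then 1 else 0 with hθdef
    have hθ : Cfsg.IsClassFunction G θ := by
      intro g k
      simp only [hθdef]
      refine if_congr ⟨fun h => h.trans (isConj_iff.mpr ⟨k⁻¹, by group⟩),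
        fun h => h.trans (isConj_iff.mpr ⟨k, rfl⟩)⟩ rfl rfl
    obtain ⟨n, ρ, hρ, hχ⟩ := exists_rep χ
    haveI := hρ
    obtain ⟨c, hc, hc'⟩ := avg_eq_scalar hθ ρ
    have h2 := congrArg (fun f => LinearMap.trace ℂ _ (f * ρ y)) hc
    simp only [avg, Finset.sum_mul, smul_mul_assoc, one_mul, ← map_mul, map_sum, map_smul,
      smul_eq_mul] at h2
    rw [← hχ, Finset.sum_filter]
    have h3 : c = (w χ : ℂ) := by
      rw [hχ] at hc'
      have hfr : (Module.finrank ℂ (Fin n → ℂ) : ℂ) = (Cfsg.charDegree (χ : G → ℂ) : ℂ) := by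
        rw [← DegreeBounds.Basic.charDegree_irr, ← hχ, Representation.char_one]
      obtain ⟨a, ha, -⟩ := exists_int_parity χ hv
      have hsum : ∑ g : G, θ g * starRingEnd ℂ ((χ : G → ℂ) g) =
          ((Subgroup.centralizer ({v} : Set G)).index : ℂ) * (χ : G → ℂ) v := by
        simp only [hθdef, ite_mul, one_mul, zero_mul]
        rw [← Finset.sum_filter, Finset.sum_congr rfl (g := fun _ => (a : ℂ)) fun g hg => by
          obtain ⟨k, rfl⟩ := isConj_iff.mp (Finset.mem_filter.mp hg).2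
          rw [isClassFunction_irr χ v k, ha, map_intCast (starRingEnd ℂ)],
          Finset.sum_const, nsmul_eq_mul, ha, ← Induced.Integral.nat_card_carrier,
          Nat.card_eq_fintype_card, ← Set.toFinset_card]
        congr 3
        ext g
        rw [Set.mem_toFinset, ConjClasses.mem_carrier_iff_mk_eq,
          ConjClasses.mk_eq_mk_iff_isConj, Finset.mem_filter]
        simp only [Finset.mem_univ, true_and]
        exact isConj_comm
      rw [hsum, hfr, hw χ] at hc'
      exact mul_right_cancel₀ (Nat.cast_ne_zero.mpr (DegreeBounds.Basic.charDegree_pos χ).ne') hc'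
    rw [← h3]
    refine Eq.trans (Finset.sum_congr rfl fun g _ => ?_) h2
    show (if IsConj v g then ρ.character (g⁻¹ * y) else 0) =
      θ g * LinearMap.trace ℂ _ (ρ (g⁻¹ * y))
    simp only [hθdef, ite_mul, one_mul, zero_mul]
    rfl

open scoped Classical in
/-- The congruence. -/
theorem two_pow_dvd [Fintype (Cfsg.IrrCharacter G)] {v : G} (hv : v * v = 1)
    {w : Cfsg.IrrCharacter G → ℤ} (hw : ∀ χ, IsOmega v χ (w χ)) {y : G} {b : ℕ}
    (hb : 2 ^ b ∣ Nat.card G) {n : ℤ}
    (hn : ∑ χ ∈ Finset.univ.filter (fun χ => Odd (w χ)), (χ : G → ℂ) 1 * (χ : G → ℂ) y = n) :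
    (2 : ℤ) ^ b ∣ n := by
  obtain ⟨z, hz⟩ := exists_count hv hw (2 ^ b) y
  have hk : ∀ χ, ∃ k : ℤ, w χ ^ 2 ^ b = (if Odd (w χ) then 1 else 0) + 2 ^ b * k := by
    intro χ
    split_ifs with ho
    · have : ∀ j, (2 : ℤ) ^ (j + 1) ∣ w χ ^ 2 ^ j - 1 := by
        intro j
        induction j with
        | zero => simpa using (even_iff_two_dvd.mp (ho.sub_odd odd_one))
        | succ j ih =>
          rw [pow_succ 2 j, pow_mul, show (w χ ^ 2 ^ j) ^ 2 - 1 =
            (w χ ^ 2 ^ j - 1) * (w χ ^ 2 ^ j + 1) by ring, pow_succ (2 : ℤ) (j + 1)]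
          exact mul_dvd_mul ih (even_iff_two_dvd.mp ((ho.pow).add_odd odd_one))
      obtain ⟨k, hk⟩ := (pow_dvd_pow (2 : ℤ) (Nat.le_succ b)).trans (this b)
      exact ⟨k, by linear_combination hk⟩
    · obtain ⟨k, hk⟩ := (pow_dvd_pow_of_dvd (even_iff_two_dvd.mp (Int.not_odd_iff_even.mp ho)) (2 ^ b))
      obtain ⟨j, hj⟩ := pow_dvd_pow (2 : ℤ) (Nat.lt_two_pow_self (n := b)).le
      exact ⟨j * k, by rw [hk, hj]; ring⟩
  choose k hk using hk
  set T : ℂ := ∑ χ : Cfsg.IrrCharacter G, (k χ : ℂ) * ((χ : G → ℂ) 1 * (χ : G → ℂ) y) with hT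
  have hTint : IsIntegral ℤ T := by
    refine IsIntegral.sum _ fun χ _ => ((isIntegral_algebraMap (R := ℤ) (x := k χ))).mul ?_
    obtain ⟨m, ρ, -, hχ⟩ := exists_rep χ
    rw [← hχ]
    exact (Induced.Integral.isIntegral_character ρ 1).mul (Induced.Integral.isIntegral_character ρ y)
  have hsum : (Nat.card G : ℂ) * z = n + (2 ^ b : ℕ) * T := by
    rw [← hz, ← hn, hT, Finset.mul_sum, Finset.sum_filter, ← Finset.sum_add_distrib]
    refine Finset.sum_congr rfl fun χ _ => ?_
    have := congrArg (Int.cast : ℤ → ℂ) (hk χ)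
    push_cast at this ⊢
    rw [this]
    split_ifs <;> ring
  obtain ⟨q, hq⟩ := hb
  have h1 : ((2 ^ b : ℕ) : ℂ) * ((q : ℂ) * z - T) = n := by
    rw [hq, Nat.cast_mul] at hsum
    linear_combination hsum
  obtain ⟨m, hm⟩ := int_of_isIntegral
    (((isIntegral_algebraMap (R := ℤ) (x := (q : ℤ))).mul
      (isIntegral_algebraMap (R := ℤ) (x := z))).sub hTint)
    (pow_ne_zero b two_ne_zero) (by simpa using h1)
  refine ⟨m, ?_⟩
  have : (n : ℂ) = (((2 : ℤ) ^ b * m : ℤ) : ℂ) := by
    push_cast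
    rw [← h1, ← hm]
    simp
  exact_mod_cast this

end Cfsg.Agent.Lib.FirstPower.SmallDegree
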