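import Cfsg.Agent.Lib.FirstPower.Consequences
import Cfsg.Agent.Lib.Characters.Kernel
import Cfsg.Agent.Lib.SmallGroups.Sylow

/-!
# An exceptional character of small degree forces a self-centralizing subgroup of order `p`
-/

namespace Cfsg.Agent.Lib.FirstPower.SmallDegree

open Periods Average Consequences Cfsg.Agent.Lib.Characters.Basic
open Family (pow_eq_one_of_order)
open CharOrbit (IsVPart)
open scoped ComplexConjugate

universe u

variable {p : ℕ} [Fact p.Prime] {G : Type u} [Group G] [Finite G] {x : G}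

theorem apply_vpart_eq_degree (hx : orderOf x = p) {V : Subgroup G} (hV : IsVPart p x V)
    (χ : Cfsg.IrrCharacter G) {δ : ℤ}
    (hd : δ = 1 ∧ Cfsg.charDegree (χ : G → ℂ) = Nat.card (autE (pow_eq_one_of_order hx)) ∨
      δ = -1 ∧ Cfsg.charDegree (χ : G → ℂ) + Nat.card (autE (pow_eq_one_of_order hx)) = p)
    (hval : ∀ u : (ZMod p)ˣ, ∀ v ∈ V, (χ : G → ℂ) (x ^ (u : ZMod p).val * v) =
      δ * eta (autE (pow_eq_one_of_order hx)) (QuotientGroup.mk u)) {v : G} (hv : v ∈ V) :
    (χ : G → ℂ) v = (χ : G → ℂ) 1 := by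
  classical
  have := Fintype.ofFinite V
  have hxp := pow_eq_one_of_order hx
  let _ := Fintype.ofFinite (autE (pow_eq_one_of_order hx))
  let _ := Fintype.ofFinite ((ZMod p)ˣ ⧸ autE (pow_eq_one_of_order hx))
  set d := Cfsg.charDegree (χ : G → ℂ) with hddef
  obtain ⟨c, hc⟩ := exists_mult hxp (vpart_le hV) (isCharacter_irr χ)
  have hcV : (Nat.card V : ℂ) ≠ 0 := Nat.cast_ne_zero.mpr Nat.card_pos.ne'
  set S : ℂ := (Nat.card V : ℂ)⁻¹ * ∑ w : V, (χ : G → ℂ) w with hS
  have h0 : aval x V (χ : G → ℂ) (0 : ZMod p) = S := by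
    simp [aval, hS, finsum_eq_sum_of_fintype]
  have hu : ∀ u : (ZMod p)ˣ, aval x V (χ : G → ℂ) (u : ZMod p) =
      δ * eta (autE (pow_eq_one_of_order hx)) (QuotientGroup.mk u) := fun u => by
    rw [aval, finsum_eq_sum_of_fintype, Finset.sum_congr rfl fun (w : V) _ => hval u (w : G) w.2,
      Finset.sum_const, Finset.card_univ, nsmul_eq_mul, ← Nat.card_eq_fintype_card,
      inv_mul_cancel_left₀ hcV]
  have hsplit : ∀ l : ZMod p, (p : ℂ) * c l = S + ∑ u : (ZMod p)ˣ,
      (δ * eta (autE (pow_eq_one_of_order hx)) (QuotientGroup.mk u)) * conj (chr p (l * u)) := by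
    intro l
    have h1 : ∑ z : ZMod p, aval x V (χ : G → ℂ) z * conj (chr p (l * z)) = (p : ℂ) * c l := by
      simp only [hc, Finset.sum_mul]
      rw [Finset.sum_comm]
      simp only [mul_assoc, conj_chr, ← chr_add, ← sub_eq_add_neg, ← sub_mul, ← Finset.mul_sum,
        sum_chr, sub_eq_zero, mul_ite, mul_zero, Finset.sum_ite_eq', Finset.mem_univ, if_true]
      ring
    rw [← h1, sum_zmod_split, h0, mul_zero, chr_zero, map_one, mul_one]
    exact congrArg _ (Finset.sum_congr rfl fun u _ => by rw [hu])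
  have hlow : ∃ k : ℕ, S = ((d : ℂ) + (p : ℂ) * k) := by
    rcases hd with ⟨hδ, hde⟩ | ⟨hδ, hde⟩
    · refine ⟨c 0, ?_⟩
      have h := hsplit 0
      simp only [zero_mul, chr_zero, map_one, mul_one, hδ, Int.cast_one, one_mul] at h
      rw [← Finset.sum_fiberwise Finset.univ (fun w : (ZMod p)ˣ =>
        (QuotientGroup.mk w : (ZMod p)ˣ ⧸ autE (pow_eq_one_of_order hx)))] at h
      rw [Finset.sum_congr rfl fun r _ => by
        rw [Finset.sum_congr rfl fun w hw => by rw [(Finset.mem_filter.mp hw).2], Finset.sum_const,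
          card_fiber, nsmul_eq_mul], ← Finset.mul_sum, sum_eta, ← Nat.card_eq_fintype_card, ← hde] at h
      linear_combination -h
    · refine ⟨c 1, ?_⟩
      have h := hsplit 1
      rw [← Finset.sum_fiberwise Finset.univ (fun w : (ZMod p)ˣ =>
        (QuotientGroup.mk w : (ZMod p)ˣ ⧸ autE (pow_eq_one_of_order hx)))] at h
      rw [Finset.sum_congr rfl fun r _ => by
        rw [Finset.sum_congr rfl fun w hw => by rw [(Finset.mem_filter.mp hw).2, one_mul],
          ← Finset.mul_sum, ← map_sum, mul_assoc]] at h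
      have he := sum_eta_mul_conj (E := autE (pow_eq_one_of_order hx)) 1 1
      simp only [mul_one, if_true, ← Nat.card_eq_fintype_card] at he
      have h2 : (p : ℂ) * c 1 = S + (δ : ℂ) *
          ∑ q, eta (autE (pow_eq_one_of_order hx)) q * conj (eta (autE (pow_eq_one_of_order hx)) q) := by
        rw [Finset.mul_sum]; exact h
      have hp' : (d : ℂ) + (Nat.card (autE (pow_eq_one_of_order hx)) : ℂ) = (p : ℂ) := by
        exact_mod_cast hde
      rw [he, hδ] at h2
      push_cast at h2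
      linear_combination hp' * (-1) - h2
  obtain ⟨k, hk⟩ := hlow
  have hn : (χ : G → ℂ) 1 = (d : ℂ) := DegreeBounds.Basic.charDegree_irr χ
  have hle : ∀ w : V, ((χ : G → ℂ) w).re ≤ (d : ℝ) := fun w => by
    refine (Complex.re_le_norm _).trans ((norm_apply_le (isCharacter_irr χ) _).trans ?_)
    rw [hn, Complex.norm_natCast]
  have h3 : ∑ w : V, (χ : G → ℂ) w = (Nat.card V : ℂ) * ((d : ℂ) + (p : ℂ) * k) := by
    rw [← hk, hS, ← mul_assoc, mul_inv_cancel₀ hcV, one_mul]
  have h4 : ∑ w : V, ((d : ℝ) - ((χ : G → ℂ) w).re) = -((Nat.card V : ℝ) * ((p : ℝ) * k)) := by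
    have := congrArg Complex.re h3
    rw [Complex.re_sum] at this
    simp only [Finset.sum_sub_distrib, this, Finset.sum_const, Finset.card_univ, nsmul_eq_mul,
      Nat.card_eq_fintype_card]
    simp [Complex.mul_re, Complex.add_re]
    ring
  have h5 : ∀ w ∈ (Finset.univ : Finset V), (d : ℝ) - ((χ : G → ℂ) w).re = 0 := by
    refine (Finset.sum_eq_zero_iff_of_nonneg fun w _ => sub_nonneg.mpr (hle w)).mp
      (le_antisymm ?_ (Finset.sum_nonneg fun w _ => sub_nonneg.mpr (hle w)))
    rw [h4]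
    have : (0 : ℝ) ≤ (Nat.card V : ℝ) * ((p : ℝ) * k) := by positivity
    linarith
  have hre := sub_eq_zero.mp (h5 ⟨v, hv⟩ (Finset.mem_univ _))
  have hnorm := norm_apply_le (isCharacter_irr χ) v
  rw [hn, Complex.norm_natCast, hre] at hnorm
  have hz : ((χ : G → ℂ) v).im = 0 := Complex.abs_re_eq_norm.mp
    (le_antisymm (Complex.abs_re_le_norm _) (hnorm.trans (le_abs_self _)))
  rw [hn]
  exact Complex.ext (by simpa using hre.symm) (by simpa using hz)

end Cfsg.Agent.Lib.FirstPower.SmallDegree
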