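import Cfsg.Agent.Lib.Characters.Basic
import Mathlib.LinearAlgebra.Matrix.Kronecker
import Mathlib.LinearAlgebra.PID

/-!
# The alternating square of a character
-/

namespace Cfsg.Agent.Lib.FirstPower.SmallDegree

open Cfsg.Agent.Lib.Characters.Basic
open scoped Kronecker

universe u

variable {G : Type u} [Group G] [Finite G]

/-- The alternating part of the tensor square of a character is a character. -/
theorem isCharacter_altSquare {χ : G → ℂ} (h : Cfsg.IsCharacter G χ) :
    Cfsg.IsCharacter G fun g => (χ g ^ 2 - χ (g * g)) / 2 := by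
  classical
  obtain ⟨n, ρ, rfl⟩ := h
  set M : G →* Matrix (Fin n) (Fin n) ℂ :=
    (LinearMap.toMatrixAlgEquiv' (R := ℂ) (n := Fin n)).toAlgHom.toMonoidHom.comp ρ with hMdef
  have hM : ∀ g, ρ.character g = (M g).trace := fun g =>
    LinearMap.trace_eq_matrix_trace ℂ (Pi.basisFun ℂ (Fin n)) (ρ g)
  let σ : Representation ℂ G (Fin n × Fin n → ℂ) :=
    { toFun := fun g => Matrix.toLin' (M g ⊗ₖ M g)
      map_one' := by rw [map_one, Matrix.one_kronecker_one, Matrix.toLin'_one]; rfl
      map_mul' := fun g g' => by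
        rw [map_mul, Matrix.mul_kronecker_mul, Matrix.toLin'_mul]; rfl }
  let S : (Fin n × Fin n → ℂ) →ₗ[ℂ] (Fin n × Fin n → ℂ) := LinearMap.funLeft ℂ ℂ Prod.swap
  have hSS : ∀ f, S (S f) = f := fun f => funext fun a => by simp [S]
  have hcomm : ∀ g f, σ g (S f) = S (σ g f) := by
    intro g f
    funext a
    show (M g ⊗ₖ M g).mulVec (f ∘ Prod.swap) a = (M g ⊗ₖ M g).mulVec f a.swap
    simp only [Matrix.mulVec, dotProduct, Function.comp_apply]
    refine Fintype.sum_equiv (Equiv.prodComm _ _) _ _ fun b => ?_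
    simp only [Equiv.prodComm_apply, Matrix.kroneckerMap_apply, Prod.fst_swap, Prod.snd_swap]
    ring
  let W : Subrepresentation σ :=
    ⟨LinearMap.ker (S + 1), fun g v hv => by
      rw [LinearMap.mem_ker, LinearMap.add_apply, Module.End.one_apply] at hv ⊢
      rw [← hcomm, ← map_add, hv, map_zero]⟩
  convert isCharacter_character W.toRepresentation using 1
  funext g
  set Q : (Fin n × Fin n → ℂ) →ₗ[ℂ] (Fin n × Fin n → ℂ) := (2 : ℂ)⁻¹ • (1 - S) with hQ
  set f := σ g ∘ₗ Q with hf
  have hfW : ∀ v, f v ∈ W.toSubmodule := by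
    intro v
    show σ g (Q v) ∈ LinearMap.ker (S + 1)
    rw [LinearMap.mem_ker, LinearMap.add_apply, Module.End.one_apply, ← hcomm, ← map_add]
    convert map_zero (σ g)
    simp [hQ, map_smul, map_sub, hSS, smul_sub]
  have hres : (W.toRepresentation g : W.toSubmodule →ₗ[ℂ] W.toSubmodule) =
      f.restrict (fun v _ => hfW v) := by
    refine LinearMap.ext fun v => Subtype.ext ?_
    have hv : S v.1 = -v.1 := by
      have h := v.2
      change v.1 ∈ LinearMap.ker (S + 1) at h
      rw [LinearMap.mem_ker, LinearMap.add_apply, Module.End.one_apply] at h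
      exact eq_neg_of_add_eq_zero_left h
    show σ g v.1 = σ g (Q v.1)
    congr 1
    simp [hQ, hv]
    module
  show _ = LinearMap.trace ℂ _ (W.toRepresentation g)
  rw [hres, LinearMap.trace_restrict_eq_of_forall_mem _ f hfW, hf,
    ← Module.End.mul_eq_comp, hQ, mul_smul_comm, mul_sub, mul_one, map_smul, map_sub]
  have h1 : LinearMap.trace ℂ _ (σ g) = ρ.character g ^ 2 := by
    show LinearMap.trace ℂ _ (Matrix.toLin' (M g ⊗ₖ M g)) = _
    rw [Matrix.trace_toLin'_eq, Matrix.trace_kronecker, ← hM, pow_two]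
  have h2 : LinearMap.trace ℂ _ (σ g * S) = ρ.character (g * g) := by
    rw [hM, map_mul M, LinearMap.trace_eq_matrix_trace ℂ (Pi.basisFun ℂ (Fin n × Fin n))]
    simp only [Matrix.trace, Matrix.diag_apply, Matrix.mul_apply, Fintype.sum_prod_type]
    refine Finset.sum_congr rfl fun a _ => Finset.sum_congr rfl fun b _ => ?_
    rw [LinearMap.toMatrix_apply]
    show (Matrix.toLin' (M g ⊗ₖ M g)) (S (Pi.basisFun ℂ _ (a, b))) (a, b) = _
    rw [Matrix.toLin'_apply, Pi.basisFun_apply]
    simp [S, Matrix.mulVec, dotProduct, Pi.single_apply, LinearMap.funLeft_apply, Prod.ext_iff,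
      Fintype.sum_prod_type, ite_and]
  rw [h1, h2, smul_eq_mul]
  ring

end Cfsg.Agent.Lib.FirstPower.SmallDegree
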