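import Cfsg.Agent.Lib.FirstPower.Periods
import Mathlib.RingTheory.Polynomial.Cyclotomic.Roots

/-!
# Galois conjugation of periods
-/

namespace Cfsg.Agent.Lib.FirstPower.SmallDegree

open Periods Polynomial
open scoped ComplexConjugate

variable {p : ℕ} [Fact p.Prime]

theorem chr_pow (a : ZMod p) (n : ℕ) : chr p a ^ n = chr p (n * a) := by
  induction n with
  | zero => simp [chr_zero]
  | succ n ih => rw [pow_succ, ih, ← chr_add]; congr 1; push_cast; ring

theorem primitive_chr (u : (ZMod p)ˣ) : IsPrimitiveRoot (chr p (u : ZMod p)) p := by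
  refine root_spec.pow_of_coprime _ (Nat.Coprime.symm ?_)
  refine (Fact.out : p.Prime).coprime_iff_not_dvd.mpr fun h => u.ne_zero ?_
  rw [← ZMod.natCast_zmod_val (u : ZMod p)]
  exact (ZMod.natCast_eq_zero_iff _ _).mpr h

/-- An integral relation on one primitive root holds on all of them. -/
theorem galois {P : ℤ[X]} (h : aeval (root p) P = 0) (u : (ZMod p)ˣ) :
    aeval (chr p (u : ZMod p)) P = 0 := by
  have hp := (Fact.out : p.Prime).pos
  have h0 : aeval (root p) (P.map (algebraMap ℤ ℚ)) = 0 := by rwa [aeval_map_algebraMap]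
  have h1 := minpoly.dvd ℚ _ h0
  rw [← cyclotomic_eq_minpoly_rat root_spec hp,
    cyclotomic_eq_minpoly_rat (primitive_chr u) hp] at h1
  have h2 := aeval_eq_zero_of_dvd_aeval_eq_zero h1 (minpoly.aeval ℚ _)
  rwa [aeval_map_algebraMap] at h2

variable (E : Subgroup (ZMod p)ˣ)

open scoped Classical in
/-- The polynomial of a period. -/
noncomputable def etaPoly (q : (ZMod p)ˣ ⧸ E) : ℤ[X] :=
  ∑ v ∈ Finset.univ.filter (fun v : (ZMod p)ˣ => (QuotientGroup.mk v : (ZMod p)ˣ ⧸ E) = q),
    X ^ (v : ZMod p).val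

theorem aeval_etaPoly (q : (ZMod p)ˣ ⧸ E) (u : (ZMod p)ˣ) :
    aeval (chr p (u : ZMod p)) (etaPoly E q) = Periods.eta E (q * QuotientGroup.mk u) := by
  classical
  rw [etaPoly, map_sum, Periods.eta]
  refine Finset.sum_bij (fun v _ => v * u) ?_ (fun _ _ _ _ h => mul_right_cancel h) ?_ ?_
  · intro v hv
    rw [Finset.mem_filter] at hv ⊢
    exact ⟨Finset.mem_univ _, by rw [QuotientGroup.mk_mul, hv.2]⟩
  · intro w hw
    rw [Finset.mem_filter] at hw
    refine ⟨w * u⁻¹, Finset.mem_filter.mpr ⟨Finset.mem_univ _, ?_⟩, inv_mul_cancel_right w u⟩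
    rw [QuotientGroup.mk_mul, hw.2, QuotientGroup.mk_inv, mul_inv_cancel_right]
  · intro v _
    rw [map_pow, aeval_X, chr_pow, ZMod.natCast_zmod_val, Units.val_mul]

theorem aeval_etaPoly_root (q : (ZMod p)ˣ ⧸ E) : aeval (root p) (etaPoly E q) = Periods.eta E q := by
  have h := aeval_etaPoly E q 1
  rwa [Units.val_one, show chr p (1 : ZMod p) = root p by
    rw [show (1 : ZMod p) = ((1 : ℕ) : ZMod p) by simp, chr_natCast, pow_one], QuotientGroup.mk_one,
    mul_one] at h

/-- The periods are distinct. -/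
theorem eta_injective [Fintype ((ZMod p)ˣ ⧸ E)] [Fintype E] : Function.Injective (Periods.eta E) := by
  intro q₁ q₂ h
  by_contra hne
  have hr : ∀ r, Periods.eta E (r * q₁) = Periods.eta E (r * q₂) := by
    intro r
    obtain ⟨u, rfl⟩ := QuotientGroup.mk_surjective r
    have h0 : aeval (root p) (etaPoly E q₁ - etaPoly E q₂) = 0 := by
      rw [map_sub, aeval_etaPoly_root, aeval_etaPoly_root, h, sub_self]
    have h1 := galois h0 u
    rw [map_sub, aeval_etaPoly, aeval_etaPoly, sub_eq_zero, mul_comm q₁, mul_comm q₂] at h1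
    exact h1
  have h1 := sum_eta_mul_conj E q₁ q₁
  rw [Finset.sum_congr rfl fun r _ => by rw [show conj (Periods.eta E (r * q₁)) = conj (Periods.eta E (r * q₂))
    by rw [hr r]], sum_eta_mul_conj, if_neg hne, if_pos rfl, sub_left_inj] at h1
  exact (Nat.cast_ne_zero.mpr (Fact.out : p.Prime).ne_zero) h1.symm

/-- A rational quadratic relation of a period makes the index at most two. -/
theorem card_le_two [Fintype ((ZMod p)ˣ ⧸ E)] [Fintype E] {c : ℤ}
    (h : Periods.eta E 1 ^ 2 + Periods.eta E 1 = c) : Fintype.card ((ZMod p)ˣ ⧸ E) ≤ 2 := by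
  classical
  have hall : ∀ q, Periods.eta E q ^ 2 + Periods.eta E q = c := by
    intro q
    obtain ⟨u, rfl⟩ := QuotientGroup.mk_surjective q
    have h0 : aeval (root p) (etaPoly E 1 ^ 2 + etaPoly E 1 - C c) = 0 := by
      rw [map_sub, map_add, map_pow, aeval_etaPoly_root, h, aeval_C]; simp
    have h1 := galois h0 u
    rw [map_sub, map_add, map_pow, aeval_etaPoly, one_mul, aeval_C, sub_eq_zero] at h1
    simpa using h1
  have hval : ∀ q, q ≠ 1 → Periods.eta E q = -1 - Periods.eta E 1 := by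
    intro q hq
    have h1 : (Periods.eta E q - Periods.eta E 1) * (Periods.eta E q + Periods.eta E 1 + 1) = 0 := by
      linear_combination hall q - h
    rcases mul_eq_zero.mp h1 with h2 | h2
    · exact absurd (eta_injective E (sub_eq_zero.mp h2)) hq
    · linear_combination h2
  by_contra hc
  push Not at hc
  obtain ⟨a, ha, b, hb, hab⟩ := Finset.one_lt_card.mp
    (show 1 < (Finset.univ.erase (1 : (ZMod p)ˣ ⧸ E)).card by
      rw [Finset.card_erase_of_mem (Finset.mem_univ _), Finset.card_univ]; omega)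
  exact hab (eta_injective E ((hval a (Finset.ne_of_mem_erase ha)).trans
    (hval b (Finset.ne_of_mem_erase hb)).symm))

end Cfsg.Agent.Lib.FirstPower.SmallDegree
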