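import Cfsg.Agent.Lib.FirstPower.SmallDegree.Products
import Cfsg.Agent.Lib.FirstPower.SmallDegree.Eta
import Cfsg.Agent.Lib.FirstPower.SmallDegree.AltSquare
import Cfsg.Agent.Lib.Characters.Linear
import Mathlib.NumberTheory.Fermat

/-!
# Exceptional degree `p - e` with `e` a power of two forces index two
-/

namespace Cfsg.Agent.Lib.FirstPower.SmallDegree

open Periods Average Consequences PerfectFew
open Cfsg.Agent.Lib Cfsg.Agent.Lib.Characters.Basic
open Family (pow_eq_one_of_order)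
open scoped ComplexConjugate

universe u

variable {p : ℕ} [Fact p.Prime] {G : Type u} [Group G] [Fintype G] {x : G} {hx : orderOf x = p}
variable (c : Comp hx) (hC : Subgroup.centralizer ({x} : Set G) = Subgroup.zpowers x) (Φ : Fam hx)

/-- The exceptional characters are real for an even order of `autE`. -/
theorem Fam.conj_Y (he : Even (Nat.card (autE (pow_eq_one_of_order hx))))
    (ht : 2 ≤ Nat.card (Cls hx)) (y : G) :
    conj ((Φ.Y 1 : G → ℂ) y) = (Φ.Y 1 : G → ℂ) y := by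
  classical
  let _ := Fintype.ofFinite (autE (pow_eq_one_of_order hx))
  let _ := Fintype.ofFinite (Cls hx)
  rw [Nat.card_eq_fintype_card (α := Cls hx)] at ht
  set ψ : Cfsg.IrrCharacter G :=
    ⟨fun g => conj ((Φ.Y 1 : G → ℂ) g), Characters.Linear.isIrrCharacter_conj (Φ.Y 1).2⟩ with hψ
  have hval : ∀ w : (ZMod p)ˣ, (ψ : G → ℂ) (x ^ (w : ZMod p).val) =
      Φ.δ * eta _ (QuotientGroup.mk w) := fun w => by
    rw [hψ]
    show conj _ = _
    rw [Φ.valY, one_mul, map_mul, map_intCast, eta_real he]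
  have hδ0 : (Φ.δ : ℂ) ≠ 0 := by rcases Φ.hδ with h | h <;> simp [h]
  obtain ⟨q', hq'⟩ := Fintype.exists_ne_of_one_lt_card ht (1 : Cls hx)
  have hconst : ∀ z : ℂ, ¬ ∀ q : Cls hx, (Φ.δ : ℂ) * eta _ q = z := fun z h =>
    hq' (eta_injective _ (mul_left_cancel₀ hδ0 ((h q').trans (h 1).symm)))
  have heq : ψ = Φ.Y 1 := by
    by_cases hR : ψ ∈ Φ.R
    · exfalso
      refine hconst (Φ.a ψ) fun q => ?_
      obtain ⟨w, rfl⟩ := QuotientGroup.mk_surjective q
      rw [← hval, Φ.valR ψ hR]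
    by_cases hY : ∃ q, Φ.Y q = ψ
    · obtain ⟨q, hq⟩ := hY
      have h := hval 1
      rw [← hq, Φ.valY, QuotientGroup.mk_one, mul_one] at h
      rw [← hq, eta_injective _ (mul_left_cancel₀ hδ0 h)]
    · push Not at hY
      exfalso
      refine hconst 0 fun q => ?_
      obtain ⟨w, rfl⟩ := QuotientGroup.mk_surjective q
      rw [← hval, Φ.valO ψ hR hY]
  exact congrFun (congrArg Subtype.val heq) y

set_option maxHeartbeats 1000000 in
include c hC in
/-- At most two classes. -/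
theorem Fam.card_cls_le_two (hδ : Φ.δ = -1) (hd : Φ.d + c.e = p) {cc : ℕ} (he : c.e = 2 ^ cc)
    (hcc : 2 ≤ cc) (ht2 : 2 ≤ Nat.card (Cls hx)) : Nat.card (Cls hx) ≤ 2 := by
  classical
  have hp : p.Prime := Fact.out
  have := Fintype.ofFinite (Cfsg.IrrCharacter G)
  let _ := Fintype.ofFinite (autE (pow_eq_one_of_order hx))
  let _ := Fintype.ofFinite (Cls hx)
  have hxp := pow_eq_one_of_order hx
  have heven : Even (Nat.card (autE (pow_eq_one_of_order hx))) := by
    show Even c.e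
    rw [he]; exact (Nat.even_pow.mpr ⟨even_two, by omega⟩)
  have hreal := Φ.conj_Y heven ht2
  have hte := card_mul_card (E := autE (pow_eq_one_of_order hx))
  rw [← Nat.card_eq_fintype_card (α := autE (pow_eq_one_of_order hx)), ← Nat.card_eq_fintype_card] at hte
  rw [show Nat.card (autE (pow_eq_one_of_order hx)) = 2 ^ cc from he] at hte
  set t := Nat.card (Cls hx) with ht
  have h4 : 4 ≤ 2 ^ cc := (show 2 ^ 2 ≤ 2 ^ cc from Nat.pow_le_pow_right two_pos hcc)
  have hp2 : p ≠ 2 := by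
    have := Nat.mul_le_mul ht2 h4
    omega
  have hfY : fixd c hC (Φ.Y 1) = 1 := by
    have h := Φ.fixd_Y c hC 1
    rw [hδ] at h
    have h' : (p : ℤ) * fixd c hC (Φ.Y 1) = (p : ℤ) * ((1 : ℕ) : ℤ) := by
      rw [h]; push_cast; omega
    exact_mod_cast mul_left_cancel₀ (by exact_mod_cast hp.ne_zero) h'
  obtain ⟨j₀, hj₀, hmj₀, hgval⟩ := apply_of_fixd_one c hC hfY
  obtain ⟨kk, hkk⟩ : ∃ kk, c.e = 4 * kk := by
    rw [he]; exact pow_dvd_pow 2 hcc
  have hkk0 : 0 < kk := by have := c.e_pos; omega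
  -- `j₀` is even
  have hj0 : 2 ∣ j₀ := by
    have h1 := hgval 1 one_ne_zero (by omega)
    rw [pow_one, mul_one] at h1
    have h2 := hreal c.g
    rw [h1, map_pow] at h2
    have h3 : c.ω ^ (j₀ + j₀) = 1 := by
      rw [pow_add]
      nth_rewrite 1 [← h2]
      rw [← mul_pow, mul_comm (conj c.ω), Complex.mul_conj, Complex.normSq_eq_norm_sq,
        c.ω_spec.norm'_eq_one c.e_pos.ne']
      simp
    obtain ⟨l, hl⟩ := (c.ω_spec.pow_eq_one_iff_dvd _).mp h3
    have h5 : 2 * j₀ = 2 * (2 * (kk * l)) := by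
      calc 2 * j₀ = j₀ + j₀ := by ring
        _ = c.e * l := hl
        _ = _ := by rw [hkk]; ring
    exact ⟨kk * l, Nat.eq_of_mul_eq_mul_left two_pos h5⟩
  set χ : G → ℂ := (Φ.Y 1 : G → ℂ) with hχ
  set F : G → ℂ := fun y => (χ y ^ 2 - χ (y * y)) / 2 with hFdef
  have hFc : Cfsg.IsCharacter G F := isCharacter_altSquare (isCharacter_irr _)
  obtain ⟨m, -, hF, hJ⟩ := expand c hC hFc
  set u2 : (ZMod p)ˣ := Units.mk0 2 (by
    intro h
    rw [show (2 : ZMod p) = ((2 : ℕ) : ZMod p) by norm_num, ZMod.natCast_eq_zero_iff] at h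
    exact hp2 ((Nat.prime_dvd_prime_iff_eq hp Nat.prime_two).mp h)) with hu2
  have hFx : ∀ w : (ZMod p)ˣ, F (x ^ (w : ZMod p).val) =
      (eta (autE (pow_eq_one_of_order hx)) (QuotientGroup.mk w) ^ 2 +
        eta (autE (pow_eq_one_of_order hx)) (QuotientGroup.mk (u2 * w))) / 2 := by
    intro w
    have h2w : x ^ (w : ZMod p).val * x ^ (w : ZMod p).val =
        x ^ ((u2 * w : (ZMod p)ˣ) : ZMod p).val := by
      rw [← pow_val_add hxp, Units.val_mul, hu2, Units.val_mk0, two_mul]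
    simp only [hFdef, hχ, h2w, Φ.valY, one_mul, hδ]
    push_cast; ring
  have hsum : ∑ w : (ZMod p)ˣ, F (x ^ (w : ZMod p).val) =
      ((c.e : ℂ) * ((p : ℂ) - c.e) - c.e) / 2 := by
    rw [Finset.sum_congr rfl fun w _ => hFx w, ← Finset.sum_div, Finset.sum_add_distrib]
    have hA : ∑ w : (ZMod p)ˣ, eta (autE (pow_eq_one_of_order hx)) (QuotientGroup.mk w) ^ 2 =
        (c.e : ℂ) * ((p : ℂ) - c.e) := by
      refine (sum_units_eq (hx := hx)
        (fun s => eta (autE (pow_eq_one_of_order hx)) s ^ 2)).trans ?_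
      have h := sum_eta_mul_conj (E := autE (pow_eq_one_of_order hx)) 1 1
      rw [if_pos rfl, Finset.sum_congr rfl fun q _ => by
        rw [mul_one, eta_real heven, ← pow_two]] at h
      rw [h]
      simp only [Comp.e, Nat.card_eq_fintype_card]
    have hB : ∑ w : (ZMod p)ˣ, eta (autE (pow_eq_one_of_order hx)) (QuotientGroup.mk (u2 * w)) =
        -(c.e : ℂ) := by
      have h := sum_eta_units (hx := hx) (QuotientGroup.mk u2)
      simp only [QuotientGroup.mk_mul, Comp.e, Nat.card_eq_fintype_card]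
      exact h
    rw [hA, hB]
    ring
  have hF1 : F 1 = ((Φ.d : ℂ) ^ 2 - Φ.d) / 2 := by
    simp only [hFdef, hχ, mul_one, DegreeBounds.Basic.charDegree_irr]
  have hehalf : c.e / 2 = 2 * kk := by omega
  have hz : F (c.g ^ (c.e / 2)) = (1 - (Φ.d : ℂ)) / 2 := by
    have hz2 : c.g ^ (c.e / 2) * c.g ^ (c.e / 2) = 1 := by
      rw [← pow_add, c.pow_g_eq_one]; exact ⟨1, by omega⟩
    have h1 : χ (c.g ^ (c.e / 2)) = 1 := by
      rw [hgval (c.e / 2) (by omega) (by omega)]
      obtain ⟨i, hi⟩ := hj0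
      rw [hi, show 2 * i * (c.e / 2) = c.e * i by rw [hehalf, hkk]; ring, pow_mul,
        c.ω_spec.pow_eq_one, one_pow]
    simp only [hFdef, hz2, h1, one_pow]
    rw [hχ, DegreeBounds.Basic.charDegree_irr]
  -- the constituents fixed by `x` and `g ^ (e / 2)`
  have hFcl := isClassFunction_of_isCharacter hFc
  have hS1 : (p : ℂ) * ∑ j ∈ Finset.range c.e, Cfsg.classInner (c.theta hC j) F =
      conj (F 1) + conj (∑ w : (ZMod p)ˣ, F (x ^ (w : ZMod p).val)) := by
    rw [c.sum_inner_theta hC hFcl, sum_zmod_split, ZMod.val_zero, pow_zero, map_sum]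
  have hS2 := fourier c hC hFcl (k := c.e / 2) (by omega) (by omega)
  have hωhalf : c.ω ^ (c.e / 2) = -1 := by
    have h1 : (c.ω ^ (c.e / 2)) ^ 2 = 1 := by
      rw [← pow_mul, show c.e / 2 * 2 = c.e by omega, c.ω_spec.pow_eq_one]
    rcases sq_eq_one_iff.mp h1 with h | h
    · exact absurd h (c.ω_spec.pow_ne_one_of_pos_of_lt (by omega) (by omega))
    · exact h
  rw [Finset.sum_congr rfl fun j _ => by
    rw [show c.e - c.e / 2 = c.e / 2 by omega, mul_comm j, pow_mul, hωhalf], hz] at hS2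
  rw [hF1, hsum] at hS1
  simp only [hJ] at hS1 hS2
  have hEven : ∑ j ∈ Finset.range c.e,
      (1 + (-1 : ℂ) ^ j) * ((∑ χ, m χ * mlt c hC j χ : ℕ) : ℂ) = 0 := by
    refine mul_left_cancel₀ (Nat.cast_ne_zero.mpr hp.ne_zero : (p : ℂ) ≠ 0) ?_
    rw [mul_zero]
    simp only [add_mul, one_mul, Finset.sum_add_distrib, mul_add]
    rw [hS1, hS2]
    have hd' : (Φ.d : ℂ) = (p : ℂ) - c.e := by
      rw [eq_sub_iff_add_eq, ← Nat.cast_add, hd]
    simp only [map_div₀, map_sub, map_mul, map_natCast, map_one, map_pow, map_ofNat]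
    rw [hd']
    ring
  have hm0 : ∀ q, m (Φ.Y q) = 0 := by
    intro q
    have h1 : ∑ j ∈ (Finset.range c.e).filter (fun j => 2 ∣ j),
        (∑ χ, m χ * mlt c hC j χ) = 0 := by
      have h2 : (((2 * ∑ j ∈ (Finset.range c.e).filter (fun j => 2 ∣ j),
          (∑ χ, m χ * mlt c hC j χ) : ℕ)) : ℂ) = 0 := by
        rw [← hEven, Nat.cast_mul, Nat.cast_sum, Finset.mul_sum, Finset.sum_filter]
        refine Finset.sum_congr rfl fun j _ => ?_
        split_ifs with hj
        · rw [(even_iff_two_dvd.mpr hj).neg_one_pow]; norm_num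
        · rw [(Nat.not_even_iff_odd.mp (fun h => hj (even_iff_two_dvd.mp h))).neg_one_pow,
            add_neg_cancel, zero_mul]
      have : (2 * ∑ j ∈ (Finset.range c.e).filter (fun j => 2 ∣ j),
          (∑ χ, m χ * mlt c hC j χ) : ℕ) = 0 := by exact_mod_cast h2
      omega
    have h3 := Finset.sum_eq_zero_iff.mp h1 j₀
      (Finset.mem_filter.mpr ⟨Finset.mem_range.mpr hj₀, hj0⟩)
    have h5 := Finset.sum_eq_zero_iff.mp h3 (Φ.Y q) (Finset.mem_univ _)
    rwa [Φ.mlt_Y c hC q, hmj₀ j₀ hj₀, if_pos rfl, mul_one] at h5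
  set C : ℤ := ∑ χ ∈ Φ.R, Φ.a χ * (m χ : ℤ) with hCdef
  have hq : ∀ w : (ZMod p)ˣ, eta (autE (pow_eq_one_of_order hx)) (QuotientGroup.mk w) ^ 2 +
      eta (autE (pow_eq_one_of_order hx)) (QuotientGroup.mk (u2 * w)) = ((2 * C : ℤ) : ℂ) := by
    intro w
    have h := hFx w
    rw [Φ.eval_x hF, Finset.sum_eq_zero (s := Finset.univ) fun q _ => by
      rw [hm0 q, Nat.cast_zero, mul_zero, zero_mul], add_zero, ← hCdef] at h
    push_cast
    linear_combination -2 * h
  have hid : ((c.e : ℂ) * ((p : ℂ) - c.e) - c.e) = ((p - 1 : ℕ) : ℂ) * ((2 * C : ℤ) : ℂ) := by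
    have h := hsum
    rw [Finset.sum_congr rfl fun w _ => (hFx w).trans (by rw [hq w]), Finset.sum_const,
      Finset.card_univ, ZMod.card_units, nsmul_eq_mul] at h
    linear_combination -2 * h
  have hpt : p = t * 2 ^ cc + 1 := by have := hp.two_le; omega
  rw [← hte, he, hpt] at hid
  have hid' : ((2 ^ cc : ℤ)) * ((t : ℤ) * 2 ^ cc + 1 - 2 ^ cc) - 2 ^ cc =
      (t : ℤ) * 2 ^ cc * (2 * C) := by
    push_cast at hid
    have h : (((2 ^ cc : ℤ) * ((t : ℤ) * 2 ^ cc + 1 - 2 ^ cc) - 2 ^ cc : ℤ) : ℂ) =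
        (((t : ℤ) * 2 ^ cc * (2 * C) : ℤ) : ℂ) := by push_cast; linear_combination hid
    exact_mod_cast h
  have hid2 : ((2 : ℤ) ^ cc) = (t : ℤ) * (2 ^ cc - 2 * C) := by
    have h0 : ((2 : ℤ) ^ cc) ≠ 0 := pow_ne_zero _ two_ne_zero
    refine mul_left_cancel₀ h0 ?_
    linear_combination -hid'
  have hdvd : t ∣ 2 ^ cc := by
    have : (t : ℤ) ∣ ((2 ^ cc : ℕ) : ℤ) := ⟨_, by push_cast; exact hid2⟩
    exact_mod_cast this
  obtain ⟨τ, hτ, htτ⟩ := (Nat.dvd_prime_pow Nat.prime_two).mp hdvd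
  have hτ1 : 1 ≤ τ := by
    by_contra h
    rw [show τ = 0 by omega, pow_zero] at htτ
    omega
  have hτ2 : τ < cc := by
    by_contra h
    rw [show τ = cc by omega] at htτ
    rw [htτ] at hid2
    push_cast at hid2
    have h1 : (2 : ℤ) ^ cc - 2 * C = 1 := by
      have h0 : ((2 : ℤ) ^ cc) ≠ 0 := pow_ne_zero _ two_ne_zero
      exact mul_left_cancel₀ h0 (by linear_combination -hid2)
    have h2 : (2 : ℤ) ∣ 2 ^ cc := dvd_pow_self 2 (by omega)
    omega
  have hpM : p = 2 ^ (τ + cc) + 1 := by rw [hpt, htτ, ← pow_add]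
  obtain ⟨α, hα⟩ := Nat.pow_of_pow_add_prime one_lt_two (n := τ + cc) (by omega) (hpM ▸ hp)
  have hα2 : α + 1 ≤ cc := by
    by_contra h
    have h1 : 2 ^ cc ≤ 2 ^ α := Nat.pow_le_pow_right two_pos (by omega)
    have h2 : 2 * cc ≤ 2 ^ cc := by
      have : ∀ n, 2 * n ≤ 2 ^ n := by
        intro n
        induction n with
        | zero => simp
        | succ n ih =>
          rcases Nat.eq_zero_or_pos n with rfl | hn
          · norm_num
          · rw [pow_succ]; omega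
      exact this cc
    omega
  have hu2E : u2 ∈ autE (pow_eq_one_of_order hx) := by
    refine mem_of_pow_card ?_
    show u2 ^ c.e = 1
    have h1 : u2 ^ (2 ^ (α + 1)) = 1 := by
      refine Units.ext ?_
      rw [Units.val_pow_eq_pow_val, Units.val_one, hu2, Units.val_mk0, pow_succ 2 α, pow_mul]
      have h2 : ((p : ℕ) : ZMod p) = 0 := ZMod.natCast_self p
      have h3 : ((2 ^ (2 ^ α) + 1 : ℕ) : ZMod p) = 0 := by rw [← hα, ← hpM]; exact h2
      push_cast at h3
      rw [eq_neg_of_add_eq_zero_left h3]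
      ring
    obtain ⟨l, hl⟩ := pow_dvd_pow 2 hα2
    rw [he, hl, pow_mul, h1, one_pow]
  rw [ht, Nat.card_eq_fintype_card]
  refine card_le_two _ (c := 2 * C) ?_
  have h := hq 1
  rwa [QuotientGroup.mk_one, mul_one, (QuotientGroup.eq_one_iff _).mpr hu2E] at h

end Cfsg.Agent.Lib.FirstPower.SmallDegree
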