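import Cfsg.Agent.Lib.FirstPower.SmallDegree.Setup
import Cfsg.Agent.Lib.FirstPower.SmallDegree.CentralParity
import Cfsg.Agent.Lib.SmallGroups.Sylow

/-!
# The congruence modulo the two-part of the order
-/

namespace Cfsg.Agent.Lib.FirstPower.SmallDegree

open Periods Average Consequences PerfectFew
open Cfsg.Agent.Lib Cfsg.Agent.Lib.Characters.Basic
open Family (pow_eq_one_of_order)

universe u

variable {p : ℕ} [Fact p.Prime] {G : Type u} [Group G] [Fintype G] {x : G} {hx : orderOf x = p}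

theorem exists_central_involution (h : 2 ∣ Nat.card G) :
    ∃ v : G, v * v = 1 ∧ v ≠ 1 ∧ Odd (Subgroup.centralizer ({v} : Set G)).index := by
  haveI := Fact.mk Nat.prime_two
  obtain ⟨T⟩ : Nonempty (Sylow 2 G) := inferInstance
  have hT : Nontrivial (T : Subgroup G) := by
    rw [Subgroup.nontrivial_iff_ne_bot]
    exact T.ne_bot_of_dvd_card h
  have := T.2.center_nontrivial
  have hdvd : 2 ∣ Nat.card (Subgroup.center (T : Subgroup G)) := by
    obtain ⟨n, hn⟩ := (T.2.to_subgroup (Subgroup.center (T : Subgroup G))).exists_card_eq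
    rw [hn]
    refine dvd_pow_self 2 ?_
    rintro rfl
    exact (Finite.one_lt_card (α := Subgroup.center (T : Subgroup G))).ne' hn
  obtain ⟨i, hi⟩ := exists_prime_orderOf_dvd_card' 2 hdvd
  have hi' : orderOf ((i : (T : Subgroup G)) : G) = 2 := by
    rw [Subgroup.orderOf_coe, Subgroup.orderOf_coe, hi]
  refine ⟨((i : (T : Subgroup G)) : G), by rw [← pow_two]; exact orderOf_dvd_iff_pow_eq_one.mp hi'.dvd, fun h1 => ?_, ?_⟩
  · rw [h1, orderOf_one] at hi'; omega
  · rw [← Nat.not_even_iff_odd, even_iff_two_dvd]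
    refine fun h2 => T.not_dvd_index (h2.trans (Subgroup.index_dvd_of_le fun y hy => ?_))
    rw [Subgroup.mem_centralizer_singleton_iff]
    exact congrArg Subtype.val (Subgroup.mem_center_iff.mp i.2 ⟨y, hy⟩)

/-- Brauer–Tuan: the degree sum over the odd central characters. -/
theorem Fam.parity [IsSimpleGroup G] (hnc : ¬ IsMulCommutative G) (Φ : Fam hx) {b : ℕ}
    (hb : 2 ^ b ∣ Nat.card G) (heven : 2 ∣ Nat.card G) (hdodd : Odd Φ.d) :
    ∃ T ⊆ Φ.R.erase (oneChar G),
      (∀ χ ∈ T, ∀ i : ℕ, i ≠ 0 → Cfsg.charDegree (χ : G → ℂ) ≠ 2 ^ i) ∧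
      (2 : ℤ) ^ b ∣ 1 - Φ.δ * Φ.d + ∑ χ ∈ T, Φ.a χ * (Cfsg.charDegree (χ : G → ℂ) : ℤ) := by
  classical
  have := Fintype.ofFinite (Cfsg.IrrCharacter G)
  let _ := Fintype.ofFinite (Cls hx)
  obtain ⟨v, hv, hv1, hidx⟩ := exists_central_involution heven
  choose w hw using fun χ : Cfsg.IrrCharacter G => exists_omega χ hv
  refine ⟨(Φ.R.erase (oneChar G)).filter fun χ => Odd (w χ), Finset.filter_subset _ _,
    fun χ hχ i hi hdeg => ?_, ?_⟩
  · have h0 := omega_eq_zero (SmallGroups.Sylow.center_eq_bot hnc) χ hi hdeg hv1 hidx (hw χ)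
    have h1 := (Finset.mem_filter.mp hχ).2
    rw [h0] at h1
    exact absurd h1 (by decide)
  refine two_pow_dvd hv hw (y := x) hb ?_
  have hone : Odd (w (oneChar G)) := odd_omega _ hv (hw _) (by rw [Fam.deg_one]; exact odd_one) hidx
  have hY : ∀ q, Odd (w (Φ.Y q)) := fun q =>
    odd_omega _ hv (hw _) (by rw [Φ.deg_Y]; exact hdodd) hidx
  have hxv : ∀ χ : Cfsg.IrrCharacter G, (χ : G → ℂ) x =
      (χ : G → ℂ) (x ^ ((1 : (ZMod p)ˣ) : ZMod p).val) := fun χ => by
    rw [Units.val_one, pow_val_one (pow_eq_one_of_order hx)]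
  rw [Finset.sum_filter, Φ.sum_split, ← Finset.add_sum_erase _ _ Φ.one_mem, if_pos hone,
    Finset.sum_eq_zero (s := (_ : Finset (Cfsg.IrrCharacter G))ᶜ) fun χ hχ => by
      simp only [Finset.mem_compl, Finset.mem_union, Finset.mem_image, Finset.mem_univ, true_and,
        not_or, not_exists] at hχ
      rw [hxv χ, Φ.valO χ hχ.1 hχ.2]; simp,
    Finset.sum_congr (s₁ := (Finset.univ : Finset (Cls hx))) rfl fun q _ => by
      rw [if_pos (hY q), hxv, Φ.valY, QuotientGroup.mk_one, mul_one,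
        DegreeBounds.Basic.charDegree_irr, Φ.deg_Y, ← mul_assoc],
    ← Finset.mul_sum, sum_eta, add_zero, DegreeBounds.Basic.charDegree_irr, Fam.deg_one,
    oneChar_apply, Finset.sum_filter (s := Φ.R.erase (oneChar G))]
  push_cast
  rw [Finset.sum_congr rfl fun χ hχ => show (if Odd (w χ) then (χ : G → ℂ) 1 * (χ : G → ℂ) x else 0) =
      if Odd (w χ) then (Φ.a χ : ℂ) * (Cfsg.charDegree (χ : G → ℂ) : ℂ) else 0 by
    split_ifs with h
    · rw [hxv χ, Φ.valR χ (Finset.mem_of_mem_erase hχ), DegreeBounds.Basic.charDegree_irr, mul_comm]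
    · rfl]
  ring

end Cfsg.Agent.Lib.FirstPower.SmallDegree
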