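import Cfsg.Agent.Lib.FirstPower.SmallDegree.Minus
import Cfsg.Agent.Lib.FirstPower.SmallDegree.Index
import Cfsg.Agent.Lib.FirstPower.SmallDegree.Parity
import Cfsg.Agent.Lib.FirstPower.SmallDegree.VPart
import Cfsg.Agent.Lib.FirstPower.Large
import Cfsg.Agent.Lib.Induced.Burnside
import Cfsg.Agent.S4503

/-!
# Brauer–Tuan: simple groups of order `p q ^ b g₀` with `g₀ < p - 1`

The Sylow `p`-subgroup is self-centralizing, there are few of them, and `p ± 1` is a power of two.
-/

namespace Cfsg.Agent.Lib.FirstPower.SmallDegree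

open Periods Average Consequences PerfectFew
open Cfsg.Agent.Lib Cfsg.Agent.Lib.Characters.Basic
open Family (pow_eq_one_of_order)

universe u

/-- A simple group has no nontrivial cyclic Sylow 2-subgroup. -/
theorem not_isCyclic_sylow_two {G : Type u} [Group G] [Finite G] [IsSimpleGroup G]
    (hG : ¬ IsMulCommutative G) (T : Sylow 2 G) (hT : (T : Subgroup G) ≠ ⊥) :
    ¬ IsCyclic (T : Subgroup G) := by
  intro hc
  haveI := Fact.mk Nat.prime_two
  haveI := hc
  refine SmallGroups.Sylow.not_normalizer_le_centralizer hG T hT (Subgroup.relIndex_eq_one.mp ?_)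
  have hle : (T : Subgroup G) ≤ Subgroup.centralizer ((T : Subgroup G) : Set G) := fun y hy z hz =>
    congrArg Subtype.val (hc.isMulCommutative.is_comm.comm (⟨z, hz⟩ : (T : Subgroup G)) ⟨y, hy⟩)
  have h1 := SmallGroups.Sylow.relIndex_dvd_card_mulAut (T : Subgroup G)
  rw [IsCyclic.card_mulAut] at h1
  obtain ⟨k, hk⟩ := T.2.exists_card_eq
  have hk0 : 0 < k := by
    rcases Nat.eq_zero_or_pos k with h | h
    · rw [h, pow_zero] at hk
      exact absurd (Subgroup.card_eq_one.mp hk) hT
    · exact h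
  rw [hk, Nat.totient_prime_pow Nat.prime_two hk0, show (2 : ℕ) - 1 = 1 from rfl, mul_one] at h1
  obtain ⟨j, -, hj⟩ := (Nat.dvd_prime_pow Nat.prime_two).mp h1
  have h2 : ¬ 2 ∣ (Subgroup.centralizer ((T : Subgroup G) : Set G)).relIndex
      (Subgroup.normalizer ((T : Subgroup G) : Set G)) := fun h =>
    T.not_dvd_index ((h.trans (Subgroup.relIndex_dvd_of_le_left _ hle)).trans
      (Subgroup.relIndex_dvd_index_of_le Subgroup.le_normalizer))
  rcases Nat.eq_zero_or_pos j with h | h
  · rw [hj, h, pow_zero]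
  · exact absurd (hj ▸ dvd_pow_self 2 h.ne') h2

set_option maxHeartbeats 1000000 in
/-- The structural consequences of the order. -/
theorem brauer_tuan {G : Type u} [Group G] [Finite G] [IsSimpleGroup G] (hG : ¬ IsCyclic G)
    (p q b g₀ : ℕ) [Fact p.Prime] (hq : q.Prime) (hpq : p ≠ q)
    (hcard : Nat.card G = p * q ^ b * g₀) (hg : g₀ < p - 1) :
    ∃ x : G, orderOf x = p ∧ Subgroup.centralizer ({x} : Set G) = Subgroup.zpowers x ∧
      2 * Nat.card (Sylow p G) < (p + 1) * (p + 2) ∧
      ∃ m : ℕ, p = 2 ^ m + 1 ∨ p = 2 ^ m - 1 := by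
  classical
  have := Fintype.ofFinite G
  have hp : p.Prime := Fact.out
  have hnc := Large.not_comm hG
  have hperf := SmallGroups.Sylow.commutator_eq_top hnc
  have hg0 : g₀ ≠ 0 := fun h => Nat.card_pos.ne' (by rw [hcard, h, mul_zero])
  have hpg : ¬ p ∣ g₀ := fun h => by
    have := Nat.le_of_dvd (Nat.pos_of_ne_zero hg0) h
    omega
  have hpqb : ¬ p ∣ q ^ b := fun h =>
    hpq ((Nat.prime_dvd_prime_iff_eq hp hq).mp (hp.dvd_of_dvd_pow h))
  have h2 : ¬ p ^ 2 ∣ Nat.card G := by
    intro h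
    rw [hcard, pow_two, mul_assoc] at h
    exact ((hp.dvd_mul).mp (Nat.dvd_of_mul_dvd_mul_left hp.pos h)).elim hpqb hpg
  obtain ⟨x, hx⟩ := exists_prime_orderOf_dvd_card' p
    (show p ∣ Nat.card G by rw [hcard, mul_assoc]; exact dvd_mul_right _ _)
  have hxp := pow_eq_one_of_order hx
  -- divisors of the order
  have hdiv : ∀ n : ℕ, n ∣ Nat.card G → ¬ p ∣ n → ¬ q ∣ n → n ∣ g₀ := by
    intro n hn h1 h3
    rw [hcard, mul_assoc] at hn
    exact (((hq.coprime_iff_not_dvd.mpr h3).symm.pow_right b)).dvd_of_dvd_mul_left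
      (((hp.coprime_iff_not_dvd.mpr h1).symm).dvd_of_dvd_mul_left hn)
  obtain ⟨V, hV⟩ := Family.exists_vpart hx h2
  obtain ⟨R, Y, a, δ, -, hYR, hδ, h1R, ha1, -, hR, hY, -, -, hrel⟩ := Family.exists_family hx h2 hV
  set d := Cfsg.charDegree (Y 1 : G → ℂ) with hd
  set e := Nat.card (autE hxp) with hedef
  have he2 : 2 ≤ e := Large.two_le_autE hnc hx h2
  have hone : Cfsg.charDegree ((oneChar G : Cfsg.IrrCharacter G) : G → ℂ) = 1 := Fam.deg_one
  have hdd : (d : ZMod p) = (δ : ZMod p) * (e : ℕ) := by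
    refine degree_of_period (autE hxp) hxp (Y 1) (δ := δ) 1 fun u => ?_
    simpa using hY 1 u 1 (one_mem V)
  have hzq' : ∀ (χ : Cfsg.IrrCharacter G) (s : ℤ), (s = 1 ∨ s = -1) → χ ≠ oneChar G →
      (∀ u : (ZMod p)ˣ, (χ : G → ℂ) (x ^ (u : ZMod p).val) = s) →
      q ∣ Cfsg.charDegree (χ : G → ℂ) := by
    intro χ s hs hne hval
    set n := Cfsg.charDegree (χ : G → ℂ) with hn
    have hn0 : 0 < n := DegreeBounds.Basic.charDegree_pos χ
    have hn1 : n ≠ 1 := fun h => hne (charDegree_eq_one_of_perfect hperf χ h)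
    have hmod := degree_of_const hxp χ (a := s) hval
    by_contra hqn
    have hpn : ¬ p ∣ n := by
      rw [← ZMod.natCast_eq_zero_iff, hmod]
      rcases hs with h | h <;> rw [h] <;> simp
    have hle := Nat.le_of_dvd (Nat.pos_of_ne_zero hg0)
      (hdiv n (DegreeBounds.Basic.charDegree_dvd χ) hpn hqn)
    rcases hs with h | h
    · rw [h, Int.cast_one] at hmod
      have : p ∣ n - 1 := by
        rw [← ZMod.natCast_eq_zero_iff, Nat.cast_sub hn0, hmod, Nat.cast_one, sub_self]
      have := Nat.le_of_dvd (by omega) this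
      omega
    · rw [h] at hmod
      have : p ∣ n + 1 := by
        rw [← ZMod.natCast_eq_zero_iff]; push_cast at hmod ⊢; rw [hmod]; ring
      have := Nat.le_of_dvd (by omega) this
      omega
  have hzq : ∀ χ ∈ R, χ ≠ oneChar G → q ∣ Cfsg.charDegree (χ : G → ℂ) := fun χ hχ hne =>
    hzq' χ (a χ) (hR χ hχ).1 hne fun u => by simpa using (hR χ hχ).2 u 1 (one_mem V)
  have hrel1 : ∑ χ ∈ R, a χ * (Cfsg.charDegree (χ : G → ℂ) : ℤ) = δ * d := by
    have h := hrel 1 not_dvd_one
    simp only [DegreeBounds.Basic.charDegree_irr] at h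
    have h' : ((∑ χ ∈ R, a χ * (Cfsg.charDegree (χ : G → ℂ) : ℤ) : ℤ) : ℂ) = ((δ * d : ℤ) : ℂ) := by
      push_cast; exact h
    exact_mod_cast h'
  have hqd : (q : ℤ) ∣ δ * d - 1 := by
    rw [← hrel1, ← Finset.add_sum_erase _ _ h1R, ha1, hone, Nat.cast_one, mul_one,
      add_sub_cancel_left]
    exact Finset.dvd_sum fun χ hχ => Dvd.dvd.mul_left
      (Int.natCast_dvd_natCast.mpr (hzq χ (Finset.mem_of_mem_erase hχ) (Finset.ne_of_mem_erase hχ))) _
  have hqnd : ¬ q ∣ d := fun h => by
    have h1 : (q : ℤ) ∣ 1 := by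
      have := dvd_sub (Dvd.dvd.mul_left (Int.natCast_dvd_natCast.mpr h) δ) hqd
      rwa [sub_sub_cancel] at this
    exact hq.ne_one (by exact_mod_cast Int.eq_one_of_dvd_one (by positivity) h1)
  have hep : e ≤ p - 1 := by
    have := Nat.le_of_dvd Nat.card_pos (Subgroup.card_subgroup_dvd_card (autE hxp))
    rwa [Nat.card_eq_fintype_card (α := (ZMod p)ˣ), ZMod.card_units] at this
  have hep' : e < p := by have := hp.two_le; omega
  have hpd : ¬ p ∣ d := by
    rw [← ZMod.natCast_eq_zero_iff, hdd]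
    intro h
    have hene : ((e : ℕ) : ZMod p) ≠ 0 := fun h' => by
      have := Nat.le_of_dvd (by omega) ((ZMod.natCast_eq_zero_iff _ _).mp h')
      omega
    rcases hδ with hh | hh <;> rw [hh] at h <;> simp at h <;> exact hene h
  have hdg : d ∣ g₀ := hdiv d (DegreeBounds.Basic.charDegree_dvd _) hpd hqnd
  have hdlt : d < p - 1 := lt_of_le_of_lt (Nat.le_of_dvd (Nat.pos_of_ne_zero hg0) hdg) hg
  have hd1 : d ≠ 1 := fun h => hYR 1 (by
    rw [charDegree_eq_one_of_perfect hperf (Y 1) h]; exact h1R)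
  have hd0 : 0 < d := DegreeBounds.Basic.charDegree_pos _
  have hcases : δ = 1 ∧ d = e ∨ δ = -1 ∧ d + e = p := by
    rcases hδ with h | h
    · refine Or.inl ⟨h, ?_⟩
      rw [h, Int.cast_one, one_mul, ZMod.natCast_eq_natCast_iff'] at hdd
      rwa [Nat.mod_eq_of_lt (by omega), Nat.mod_eq_of_lt hep'] at hdd
    · refine Or.inr ⟨h, ?_⟩
      have h' : p ∣ d + e := by
        rw [← ZMod.natCast_eq_zero_iff]; push_cast; rw [hdd, h]; push_cast; ring
      obtain ⟨l, hl⟩ := h'
      have : l = 1 := by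
        rcases Nat.lt_or_ge l 2 with hl2 | hl2
        · rcases Nat.eq_zero_or_pos l with rfl | hlp
          · simp at hl; omega
          · omega
        · have := Nat.mul_le_mul_left p hl2; omega
      rw [hl, this, mul_one]
  have het : 2 ≤ Nat.card (Cls hx) := by
    by_contra hc
    have h1 : Nat.card (Cls hx) * e = p - 1 := by
      rw [hedef, ← Subgroup.card_eq_card_quotient_mul_card_subgroup, Nat.card_eq_fintype_card,
        ZMod.card_units]
    have : 0 < Nat.card (Cls hx) := Nat.card_pos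
    rw [show Nat.card (Cls hx) = 1 by omega, one_mul] at h1
    rcases hcases with ⟨-, h⟩ | ⟨-, h⟩ <;> omega
  have hte : Nat.card (Cls hx) * e = p - 1 := by
    rw [hedef, ← Subgroup.card_eq_card_quotient_mul_card_subgroup, Nat.card_eq_fintype_card,
      ZMod.card_units]
  -- `C(x) = ⟨x⟩`
  have hfaith : ∀ g : G, (Y 1 : G → ℂ) g = (Y 1 : G → ℂ) 1 → g = 1 := by
    intro g hgd
    by_contra hne
    have hker : ∀ g', (Y 1 : G → ℂ) g' = (Y 1 : G → ℂ) 1 := fun g' => by
      by_contra hg'
      have hk := Characters.Kernel.charKer_eq_bot_of_simple (isCharacter_irr (Y 1)) hg'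
      have hmem := (Characters.Kernel.mem_charKer (isCharacter_irr (Y 1)) g).mpr hgd
      rw [hk, Subgroup.mem_bot] at hmem
      exact hne hmem
    have h1 := classInner_self_irr (Y 1)
    rw [Cfsg.classInner, Finset.sum_congr rfl fun g _ => by rw [hker g],
      Finset.sum_const, Finset.card_univ, ← Nat.card_eq_fintype_card, nsmul_eq_mul,
      inv_mul_cancel_left₀ (Nat.cast_ne_zero.mpr Nat.card_pos.ne'),
      DegreeBounds.Basic.charDegree_irr, map_natCast] at h1
    have h3 : d * d = 1 := by exact_mod_cast h1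
    exact hd1 (Nat.eq_one_of_mul_eq_one_left h3)
  have hVbot : V = ⊥ := by
    rw [eq_bot_iff]
    intro v hv
    rw [Subgroup.mem_bot]
    exact hfaith v (apply_vpart_eq_degree hx hV (Y 1) hcases (fun u w hw => by
      simpa using hY 1 u w hw) hv)
  have hC : Subgroup.centralizer ({x} : Set G) = Subgroup.zpowers x := by
    refine le_antisymm (fun y hy => ?_) (Subgroup.zpowers_le.mpr
      (Subgroup.mem_centralizer_singleton_iff.mpr rfl))
    obtain ⟨i, ⟨w, hw⟩, rfl⟩ := exists_decomp hx h2 hV hy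
    rw [hVbot, Subgroup.mem_bot] at hw
    subst hw
    simp [pow_mem (Subgroup.mem_zpowers x)]
  refine ⟨x, hx, hC, ?_⟩
  obtain ⟨Φ⟩ := exists_fam (hx := hx) hC
  obtain ⟨c⟩ := PerfectFew.exists_comp hx hC he2
  -- the data of the new family agree with the old one
  have hce : c.e = e := rfl
  set n := Nat.card (Sylow p G) with hn
  have hGn : Nat.card G = n * (e * p) := by
    have h := Consequences.card_eq hx h2 hV
    rw [hVbot, Subgroup.card_bot, mul_one] at h
    exact h
  have hne' : n * e = q ^ b * g₀ := by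
    refine Nat.eq_of_mul_eq_mul_right hp.pos ?_
    rw [mul_assoc, ← hGn, hcard]; ring
  obtain ⟨hΦδ, hΦd⟩ : Φ.δ = δ ∧ Φ.d = d := by
    let _ := Fintype.ofFinite (autE hxp)
    let _ := Fintype.ofFinite (Cls hx)
    by_cases hYin : ∃ q', Φ.Y q' = Y 1
    · obtain ⟨q', hq'⟩ := hYin
      have hdd' : Φ.d = d := by rw [hd, ← hq', Φ.deg_Y]
      have hsum : ∑ u : (ZMod p)ˣ, (Φ.Y q' : G → ℂ) (x ^ (u : ZMod p).val) =
          -((Φ.δ : ℤ) : ℂ) * (e : ℕ) := by
        rw [Finset.sum_congr rfl fun u _ => Φ.valY q' u, ← Finset.mul_sum, sum_eta_units]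
        rw [hedef, Nat.card_eq_fintype_card]; ring
      have hsum' : ∑ u : (ZMod p)ˣ, (Y 1 : G → ℂ) (x ^ (u : ZMod p).val) =
          -((δ : ℤ) : ℂ) * (e : ℕ) := by
        rw [Finset.sum_congr rfl fun (u : (ZMod p)ˣ) _ =>
          show (Y 1 : G → ℂ) (x ^ (u : ZMod p).val) =
            (δ : ℂ) * eta (autE hxp) (1 * QuotientGroup.mk u) by simpa using hY 1 u 1 (one_mem V),
          ← Finset.mul_sum, sum_eta_units, hedef, Nat.card_eq_fintype_card]
        ring
      rw [hq', hsum'] at hsum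
      have := mul_right_cancel₀ (show ((e : ℕ) : ℂ) ≠ 0 by exact_mod_cast (show e ≠ 0 by omega))
        hsum
      exact ⟨(by exact_mod_cast (neg_inj.mp this).symm), hdd'⟩
    · exfalso
      push Not at hYin
      have hval : ∀ u : (ZMod p)ˣ, (Y 1 : G → ℂ) (x ^ (u : ZMod p).val) =
          δ * eta (autE hxp) (QuotientGroup.mk u) := fun u => by simpa using hY 1 u 1 (one_mem V)
      obtain ⟨q', hq'⟩ := Fintype.exists_ne_of_one_lt_card
        (show 1 < Fintype.card (Cls hx) by rw [← Nat.card_eq_fintype_card]; omega) (1 : Cls hx)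
      have hδ0 : (δ : ℂ) ≠ 0 := by rcases hδ with h | h <;> simp [h]
      have hconst : ∀ z : ℂ, ¬ ∀ r : Cls hx, (δ : ℂ) * eta (autE hxp) r = z := fun z h =>
        hq' (eta_injective _ (mul_left_cancel₀ hδ0 ((h q').trans (h 1).symm)))
      by_cases hR' : Y 1 ∈ Φ.R
      · refine hconst (Φ.a (Y 1)) fun r => ?_
        obtain ⟨u, rfl⟩ := QuotientGroup.mk_surjective r
        rw [← hval, Φ.valR _ hR']
      · refine hconst 0 fun r => ?_
        obtain ⟨u, rfl⟩ := QuotientGroup.mk_surjective r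
        rw [← hval, Φ.valO _ hR' hYin]
  have hΦq : ∀ χ ∈ Φ.R, χ ≠ oneChar G → q ∣ Cfsg.charDegree (χ : G → ℂ) := fun χ hχ hne =>
    hzq' χ (Φ.a χ) (Φ.a_sign χ hχ) hne (Φ.valR χ hχ)
  have hdeg : ∀ χ : Cfsg.IrrCharacter G,
      Cfsg.charDegree (χ : G → ℂ) ∣ p * (q ^ b * g₀) := fun χ => by
    rw [← mul_assoc, ← hcard]; exact DegreeBounds.Basic.charDegree_dvd χ
  rcases hcases with ⟨hδ1, hde⟩ | ⟨hδm, hde⟩
  · -- degree `(p - 1) / 2`
    have h5 := S4503.result p hp (hx ▸ orderOf_dvd_natCard x) h2 (fun H hH hHc => by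
      rcases IsSimpleGroup.eq_bot_or_eq_top_of_normal H hH with hb | hb
      · rw [hb, Subgroup.card_bot] at hHc; exact hp.ne_one hHc.symm
      · rw [hb, Subgroup.card_top] at hHc
        haveI := Fact.mk (hHc ▸ hp : (Nat.card G).Prime)
        exact hG (isCyclic_of_prime_card rfl)) (Y 1 : G → ℂ) (isCharacter_irr _) hfaith
    rw [← hd, hde] at h5
    have hpe : p = 2 * e + 1 := by
      have := Nat.mul_le_mul_right e het
      omega
    have ht : Nat.card (Cls hx) = 2 :=
      Nat.eq_of_mul_eq_mul_right (by omega : 0 < e) (by omega)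
    have hg₀ : g₀ = e := by
      obtain ⟨k, hk⟩ := hde ▸ hdg
      rcases Nat.lt_or_ge k 2 with hk2 | hk2
      · interval_cases k
        · simp at hk; omega
        · omega
      · have := Nat.mul_le_mul_left e hk2; omega
    have hnb : n = q ^ b := Nat.eq_of_mul_eq_mul_right (by omega : 0 < e) (by rw [hne', hg₀])
    rcases Nat.even_or_odd e with ⟨k, hk⟩ | ⟨L, hL⟩
    · exfalso
      have hq2 : q ≠ 2 := by
        rintro rfl
        rw [hδ1, hde, one_mul] at hqd
        omega
      have hf : (Nat.card G).factorization 2 = e.factorization 2 := by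
        rw [hcard, hg₀, Nat.factorization_mul (mul_ne_zero hp.ne_zero (pow_ne_zero _ hq.ne_zero))
          (by omega), Nat.factorization_mul hp.ne_zero (pow_ne_zero _ hq.ne_zero),
          Nat.factorization_pow]
        simp only [Finsupp.add_apply, Finsupp.smul_apply, smul_eq_mul]
        rw [Nat.factorization_eq_zero_of_not_dvd (n := p) (by omega),
          Nat.factorization_eq_zero_of_not_dvd (n := q) (fun h => hq2
            ((Nat.prime_dvd_prime_iff_eq Nat.prime_two hq).mp h).symm)]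
        simp
      have hgd : orderOf c.g = e := c.ord_g
      have hord : orderOf (c.g ^ (e / 2 ^ e.factorization 2)) = 2 ^ e.factorization 2 := by
        rw [orderOf_pow_of_dvd (Nat.div_pos (Nat.le_of_dvd (by omega) (Nat.ordProj_dvd e 2))
          (by positivity)).ne' (by rw [hgd]; exact Nat.div_dvd_of_dvd (Nat.ordProj_dvd e 2)), hgd,
          Nat.div_div_self (Nat.ordProj_dvd e 2) (by omega)]
      haveI := Fact.mk Nat.prime_two
      refine not_isCyclic_sylow_two hnc (Sylow.ofCard
        (Subgroup.zpowers (c.g ^ (e / 2 ^ e.factorization 2)))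
        (by rw [Nat.card_zpowers, hord, hf])) ?_ ?_
      · intro h
        have h1 := congrArg (fun H : Subgroup G => Nat.card H) h
        simp only [Sylow.coe_ofCard, Nat.card_zpowers, hord, Subgroup.card_bot] at h1
        have : 0 < e.factorization 2 :=
          Nat.prime_two.factorization_pos_of_dvd (by omega) ⟨k, by omega⟩
        exact absurd h1 (Nat.one_lt_pow this.ne' one_lt_two).ne'
      · rw [Sylow.coe_ofCard]; infer_instance
    · obtain ⟨hdegs, χ₁, hχ₁, hz₁⟩ := Φ.degrees_plus c hC hperf (hΦδ.trans hδ1)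
        ((hΦd.trans hde).trans hce.symm) ht (hce.trans hL) (by omega)
      have hne₁ : χ₁ ≠ oneChar G := fun h => by rw [h, hone] at hz₁; omega
      have hcop : Nat.Coprime (p + 1) (p * e) := by
        refine Nat.Coprime.mul_right (by simp) ?_
        rw [hpe, show 2 * e + 1 + 1 = 2 + e * 2 by ring, Nat.coprime_add_mul_left_left,
          Nat.coprime_two_left]
        exact ⟨L, hL⟩
      have h3 : p + 1 ∣ q ^ b := by
        have := hdeg χ₁
        rw [hz₁, hg₀, show p * (q ^ b * e) = q ^ b * (p * e) by ring] at this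
        exact hcop.dvd_of_dvd_mul_right this
      have hq2 : q = 2 := ((Nat.prime_dvd_prime_iff_eq Nat.prime_two hq).mp
        (Nat.prime_two.dvd_of_dvd_pow
          ((show 2 ∣ p + 1 from ⟨e + 1, by omega⟩).trans h3))).symm
      subst hq2
      obtain ⟨m, -, hm⟩ := (Nat.dvd_prime_pow Nat.prime_two).mp h3
      refine ⟨?_, m, Or.inr (by omega)⟩
      have heven : 2 ∣ Nat.card G :=
        ((hΦq χ₁ hχ₁ hne₁).trans (DegreeBounds.Basic.charDegree_dvd χ₁))
      obtain ⟨T, hT, hTp, hS⟩ := Φ.parity hnc (b := b)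
        (by rw [hcard]; exact Dvd.dvd.mul_right (dvd_mul_left _ _) _) heven
        (by rw [hΦd, hde, hL]; exact odd_two_mul_add_one L)
      have hTz : ∀ χ ∈ T, Φ.a χ * (Cfsg.charDegree (χ : G → ℂ) : ℤ) = -(2 * e : ℕ) := by
        intro χ hχ
        have hχ' := Finset.mem_erase.mp (hT hχ)
        rcases hdegs χ hχ'.2 hχ'.1 with ⟨-, h⟩ | ⟨ha, h⟩
        · exact absurd (h.trans hm) (hTp χ hχ m (by rintro rfl; simp at hm; omega))
        · rw [ha, show Cfsg.charDegree (χ : G → ℂ) = 2 * e by omega]; ring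
      rw [hΦδ, hΦd, hδ1, hde, Finset.sum_congr rfl hTz, Finset.sum_const, nsmul_eq_mul] at hS
      have hTc : T.card ≤ e - 1 := by
        refine (Finset.card_le_card hT).trans ?_
        rw [Finset.card_erase_of_mem Φ.one_mem, Φ.card_R]
      obtain ⟨w, hw⟩ : ∃ w, 2 ^ b ≤ w ∧ (w : ℕ) ≤ 2 * (e * e) := by
        refine ⟨e - 1 + T.card * (2 * e), Nat.le_of_dvd (by omega) ?_, ?_⟩
        · rw [← Int.natCast_dvd_natCast, ← dvd_neg]
          have h1e : ((e - 1 : ℕ) : ℤ) = (e : ℤ) - 1 := by omega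
          push_cast [h1e] at hS ⊢
          rwa [show -((e : ℤ) - 1 + T.card * (2 * e)) = 1 - 1 * e + T.card * -(2 * e) by ring]
        · have := Nat.mul_le_mul_right (2 * e) hTc
          rw [Nat.sub_mul, show e * (2 * e) = 2 * (e * e) by ring] at this
          have : e ≤ e * e := Nat.le_mul_self e
          omega
      rw [hnb, hpe]
      nlinarith [hw.1, hw.2]
  · -- degree above `(p - 1) / 2`
    have h2e : 2 * e ≤ p - 1 := hte ▸ Nat.mul_le_mul_right e het
    have hg₀ : g₀ = d := by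
      obtain ⟨k, hk⟩ := hdg
      rcases Nat.lt_or_ge k 2 with hk2 | hk2
      · interval_cases k
        · simp at hk; omega
        · omega
      · have := Nat.mul_le_mul_left d hk2; omega
    have hcop : Nat.Coprime e d := by
      rw [show d = p - e by omega, Nat.coprime_sub_self_right (by omega)]
      exact (hp.coprime_iff_not_dvd.mpr fun h => by
        have := Nat.le_of_dvd (by omega) h; omega).symm
    have he' : e ∣ q ^ b := by
      refine hcop.dvd_of_dvd_mul_right ?_
      rw [← hg₀, ← hne']; exact dvd_mul_left _ _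
    obtain ⟨cc, -, hcc⟩ := (Nat.dvd_prime_pow hq).mp he'
    have hcc0 : cc ≠ 0 := by rintro rfl; simp at hcc; omega
    have hqe : q ∣ e := hcc ▸ dvd_pow_self q hcc0
    have hq2 : q = 2 := by
      rw [hδm, show (-1 : ℤ) * d - 1 = -((d + 1 : ℕ) : ℤ) by push_cast; ring, dvd_neg,
        Int.natCast_dvd_natCast] at hqd
      have h1 : q ∣ p + 1 := by
        rw [show p + 1 = d + 1 + e by omega]; exact Nat.dvd_add hqd hqe
      have h2' : q ∣ p - 1 := hqe.trans ⟨_, (hte.symm.trans (mul_comm _ _))⟩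
      have h3 : q ∣ 2 := by
        have := Nat.dvd_sub h1 h2'
        rwa [show p + 1 - (p - 1) = 2 by omega] at this
      exact (Nat.prime_dvd_prime_iff_eq hq Nat.prime_two).mp h3
    subst hq2
    have hpodd : ¬ 2 ∣ p := fun h =>
      hpq ((Nat.prime_dvd_prime_iff_eq Nat.prime_two hp).mp h).symm
    have hdodd : Odd d := by rw [Nat.odd_iff]; omega
    obtain ⟨T, hT, hTp, hS⟩ := Φ.parity hnc (b := b)
      (by rw [hcard]; exact Dvd.dvd.mul_right (dvd_mul_left _ _) _)
      (by rw [hGn]; exact dvd_mul_of_dvd_right (dvd_mul_of_dvd_left hqe _) _)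
      (hΦd ▸ hdodd)
    rw [hΦδ, hΦd, hδm] at hS
    rcases Nat.lt_or_ge cc 2 with hcc2 | hcc2
    · -- complement of order two
      have he2' : e = 2 := by rw [hcc, show cc = 1 by omega, pow_one]
      obtain ⟨χ₂, hχ₂⟩ : ∃ χ, Φ.R.erase (oneChar G) = {χ} := Finset.card_eq_one.mp (by
        rw [Finset.card_erase_of_mem Φ.one_mem, Φ.card_R]
        exact (congrArg (· - 1) he2' :))
      have hχ₂' := Finset.mem_erase.mp (hχ₂ ▸ Finset.mem_singleton_self χ₂ :
        χ₂ ∈ Φ.R.erase (oneChar G))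
      have hrelΦ : ∑ χ ∈ Φ.R, Φ.a χ * (Cfsg.charDegree (χ : G → ℂ) : ℤ) = Φ.δ * Φ.d := by
        have h := Φ.rel 1 not_dvd_one
        simp only [DegreeBounds.Basic.charDegree_irr] at h
        have h' : ((∑ χ ∈ Φ.R, Φ.a χ * (Cfsg.charDegree (χ : G → ℂ) : ℤ) : ℤ) : ℂ) =
            ((Φ.δ * Φ.d : ℤ) : ℂ) := by
          push_cast; exact h
        exact_mod_cast h'
      rw [← Finset.add_sum_erase _ _ Φ.one_mem, hχ₂, Finset.sum_singleton, Φ.a_one, hone, hΦδ,
        hΦd, hδm] at hrelΦ
      have hz : Cfsg.charDegree (χ₂ : G → ℂ) = p - 1 := by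
        rcases Φ.a_sign χ₂ hχ₂'.2 with h | h <;> rw [h] at hrelΦ <;> omega
      have hpm : p - 1 ∣ 2 ^ b := by
        have := hdeg χ₂
        rw [hz, hg₀, show p * (2 ^ b * d) = 2 ^ b * (p * d) by ring] at this
        refine Nat.Coprime.dvd_of_dvd_mul_right (Nat.Coprime.mul_right ?_ ?_) this
        · rw [Nat.coprime_self_sub_left (by omega)]; exact Nat.coprime_one_left p
        · rw [show d = p - 1 - 1 by omega, Nat.coprime_self_sub_right (by omega)]
          exact Nat.coprime_one_right _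
      obtain ⟨m, -, hm⟩ := (Nat.dvd_prime_pow Nat.prime_two).mp hpm
      refine ⟨?_, m, Or.inl (by omega)⟩
      have hT0 : T = ∅ := Finset.eq_empty_of_forall_notMem fun χ hχ => by
        have := hT hχ
        rw [hχ₂, Finset.mem_singleton] at this
        exact hTp χ hχ m (by rintro rfl; simp at hm; omega) (by rw [this, hz, hm])
      rw [hT0, Finset.sum_empty] at hS
      have h3 : 2 ^ b ≤ p - 1 := Nat.le_of_dvd (by omega) (by
        rw [← Int.natCast_dvd_natCast]
        convert hS using 1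
        · push_cast; ring
        · push_cast [Nat.cast_sub (show 1 ≤ p by omega)]; rw [← hde, he2']; push_cast; ring)
      rw [he2', hg₀] at hne'
      calc 2 * n = 2 ^ b * d := by omega
        _ ≤ (p - 1) * d := Nat.mul_le_mul_right d h3
        _ < (p + 1) * (p + 2) := Nat.mul_lt_mul'' (by omega) (by omega)
    · -- complement of order at least four
      have ht : Nat.card (Cls hx) = 2 := le_antisymm
        (Φ.card_cls_le_two c hC (hΦδ.trans hδm) (by rw [hΦd, hce, hde]) (hce.trans hcc) hcc2 het)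
        het
      rw [ht] at hte
      have hpe : p = 2 * e + 1 := by omega
      have h4 : 2 ^ 2 ≤ e := hcc ▸ Nat.pow_le_pow_right two_pos hcc2
      have hno : ∀ χ : Cfsg.IrrCharacter G, Cfsg.charDegree (χ : G → ℂ) ≠ 2 * p + 1 ∧
          Cfsg.charDegree (χ : G → ℂ) + 1 ≠ 2 * p := by
        have key : ∀ χ : Cfsg.IrrCharacter G, ¬ 2 ∣ Cfsg.charDegree (χ : G → ℂ) →
            ¬ p ∣ Cfsg.charDegree (χ : G → ℂ) → Cfsg.charDegree (χ : G → ℂ) ≤ d := by
          intro χ h h'
          exact Nat.le_of_dvd hd0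
            (hg₀ ▸ hdiv _ (DegreeBounds.Basic.charDegree_dvd χ) h' h)
        intro χ
        constructor <;> intro h <;>
          have := key χ (by omega) (fun h' => by
            have hp1 : p ∣ 1 := by
              first
              | exact (Nat.dvd_add_right (dvd_mul_left p 2)).mp (h ▸ h')
              | exact (Nat.dvd_add_right h').mp (h ▸ dvd_mul_left p 2)
            exact hp.not_dvd_one hp1) <;> omega
      have hdegs := Φ.degrees_minus c hC hperf (hΦδ.trans hδm) (by rw [hΦd, hce, hde]) ht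
        (h := 2 ^ (cc - 1)) (by
          rw [hce, hcc, ← pow_succ', show cc - 1 + 1 = cc by omega]) Nat.one_le_two_pow hno
      refine ⟨?_, cc + 1, Or.inl (by rw [pow_succ', ← hcc]; omega)⟩
      have hTz : ∀ χ ∈ T, Φ.a χ * (Cfsg.charDegree (χ : G → ℂ) : ℤ) = (2 * e + 2 : ℕ) := by
        intro χ hχ
        have hχ' := Finset.mem_erase.mp (hT hχ)
        rcases hdegs χ hχ'.2 hχ'.1 with ⟨ha, h⟩ | ⟨-, h⟩
        · rw [ha, h, one_mul, show p + 1 = 2 * e + 2 by omega]
        · exact absurd (show Cfsg.charDegree (χ : G → ℂ) = 2 ^ (cc + 1) by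
            rw [pow_succ', ← hcc]; omega) (hTp χ hχ (cc + 1) (by omega))
      rw [Finset.sum_congr rfl hTz, Finset.sum_const, nsmul_eq_mul] at hS
      have hTc : T.card ≤ e - 1 := by
        refine (Finset.card_le_card hT).trans ?_
        rw [Finset.card_erase_of_mem Φ.one_mem, Φ.card_R]
      have h3 : 2 ^ b ≤ (2 * e + 1) * e := by
        refine le_trans (Nat.le_of_dvd (n := e + 2 + T.card * (2 * e + 2)) (by omega) ?_) ?_
        · rw [← Int.natCast_dvd_natCast]
          convert hS using 1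
          · push_cast; ring
          · rw [show d = e + 1 by omega]; push_cast; ring
        · have := Nat.mul_le_mul_right (2 * e + 2) hTc
          rw [Nat.sub_mul] at this
          have he2e : 2 * e + 2 ≤ e * (2 * e + 2) := Nat.le_mul_of_pos_left _ (by omega)
          have hr1 : e * (2 * e + 2) = 2 * (e * e) + 2 * e := by ring
          have hr2 : (2 * e + 1) * e = 2 * (e * e) + e := by ring
          omega
      rw [hg₀] at hne'
      have hn3 : n ≤ (2 * e + 1) * (e + 1) := by
        refine Nat.le_of_mul_le_mul_right (c := e) ?_ (by omega)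
        rw [hne', show d = e + 1 by omega]
        calc 2 ^ b * (e + 1) ≤ (2 * e + 1) * e * (e + 1) := Nat.mul_le_mul_right _ h3
          _ = _ := by ring
      rw [hpe]
      nlinarith [hn3]

end Cfsg.Agent.Lib.FirstPower.SmallDegree
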