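import Cfsg.Agent.Lib.FirstPower.SmallDegree.Plus

/-!
# Exceptional degree `(p + 1) / 2`, `p ≡ 1 mod 4`

All other characters that do not vanish on `x` have degree `1`, `p + 1` or `p - 1`, provided no
degree is `2 p ± 1`.
-/

namespace Cfsg.Agent.Lib.FirstPower.SmallDegree

open Periods Average Consequences PerfectFew
open Cfsg.Agent.Lib Cfsg.Agent.Lib.Characters.Basic
open Family (pow_eq_one_of_order)
open scoped ComplexConjugate

universe u

variable {p : ℕ} [Fact p.Prime] {G : Type u} [Group G] [Fintype G] {x : G} {hx : orderOf x = p}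
variable (c : Comp hx) (hC : Subgroup.centralizer ({x} : Set G) = Subgroup.zpowers x) (Φ : Fam hx)

theorem fixd_oneChar : fixd c hC (oneChar G) = 1 := by
  rw [fixd, Finset.sum_eq_single 0]
  · rw [mlt_one c hC c.e_pos, if_pos rfl]
  · intro j hj hj0
    rw [mlt_one c hC (Finset.mem_range.mp hj), if_neg hj0]
  · exact fun h => absurd (Finset.mem_range.mpr c.e_pos) h

theorem norm_apply_g {χ : Cfsg.IrrCharacter G} (h : fixd c hC χ = 1) {k : ℕ} (hk0 : k ≠ 0)
    (hk : k < c.e) : (χ : G → ℂ) (c.g ^ k) * conj ((χ : G → ℂ) (c.g ^ k)) = 1 := by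
  obtain ⟨j₀, -, -, hval⟩ := apply_of_fixd_one c hC h
  rw [hval k hk0 hk, map_pow, ← mul_pow, Complex.mul_conj, Complex.normSq_eq_norm_sq,
    c.ω_spec.norm'_eq_one c.e_pos.ne']
  simp

theorem Fam.sum_signed {m : Cfsg.IrrCharacter G → ℕ} (hone : m (oneChar G) = 1 ∨ m (oneChar G) = 0) :
    ∑ χ ∈ Φ.R, Φ.a χ * (m χ : ℤ) = (m (oneChar G) : ℤ) +
      (((∑ χ ∈ Φ.signed 1, m χ : ℕ) : ℤ) - ((∑ χ ∈ Φ.signed (-1), m χ : ℕ) : ℤ)) := by
  rw [Φ.sum_R, Φ.a_one, one_mul, sub_eq_add_neg]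
  push_cast
  rw [← Finset.sum_neg_distrib]
  congr 2
  · exact Finset.sum_congr rfl fun χ hχ => by rw [(Φ.mem_signed.mp hχ).2.2, one_mul]
  · exact Finset.sum_congr rfl fun χ hχ => by rw [(Φ.mem_signed.mp hχ).2.2, neg_one_mul]

section

variable [Fintype (Cfsg.IrrCharacter G)] [Fintype (autE (pow_eq_one_of_order hx))]
  [Fintype (Cls hx)]
variable {h : ℕ}

include c hC in
theorem Fam.fixd_Y_one (hδ : Φ.δ = -1) (hd : Φ.d + c.e = p) (q : Cls hx) :
    fixd c hC (Φ.Y q) = 1 := by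
  have h := Φ.fixd_Y c hC q
  rw [hδ] at h
  have h' : (p : ℤ) * fixd c hC (Φ.Y q) = (p : ℤ) * ((1 : ℕ) : ℤ) := by
    rw [h]; push_cast; omega
  exact_mod_cast mul_left_cancel₀ (by exact_mod_cast (Fact.out : p.Prime).ne_zero) h'

set_option maxHeartbeats 1000000 in
include c hC in
open scoped Classical in
/-- The constituents of `Y q * conj (Y q)`. -/
theorem Fam.square_struct (hperf : commutator G = ⊤) (hδ : Φ.δ = -1) (hd : Φ.d + c.e = p)
    (ht : Fintype.card (Cls hx) = 2) (hh : c.e = 2 * h) (hh1 : 1 ≤ h)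
    (hno : ∀ χ : Cfsg.IrrCharacter G, Cfsg.charDegree (χ : G → ℂ) ≠ 2 * p + 1) (q : Cls hx) :
    ∃ m : Cfsg.IrrCharacter G → ℕ,
      (∀ χ : Cfsg.IrrCharacter G, Cfsg.classInner (Φ.prod q q) (χ : G → ℂ) = m χ) ∧
      (∀ y, Φ.prod q q y = ∑ χ, (m χ : ℂ) * (χ : G → ℂ) y) ∧
      (∀ s, m (Φ.Y s) = if s = q then 1 else 0) ∧ (∑ χ, m χ = h + 2) ∧ (∀ χ, m χ ≤ 1) ∧
      (h - 1 ≤ ((Φ.signed 1).filter fun χ => m χ ≠ 0).card) ∧
      ∀ χ ∈ (Φ.signed 1).filter fun χ => m χ ≠ 0, Cfsg.charDegree (χ : G → ℂ) = p + 1 := by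
  classical
  have hp : p.Prime := Fact.out
  have hE : Nat.card (autE (pow_eq_one_of_order hx)) = 2 * h := hh
  have hfY := Φ.fixd_Y_one c hC hδ hd
  have hte := card_mul_card (E := autE (pow_eq_one_of_order hx))
  rw [← Nat.card_eq_fintype_card (α := autE (pow_eq_one_of_order hx)), hE,
    show Fintype.card ((ZMod p)ˣ ⧸ autE (pow_eq_one_of_order hx)) = 2 from ht] at hte
  have hpe : p = 2 * c.e + 1 := by have := hp.two_le; omega
  obtain ⟨m, hm, hF, hJ⟩ := expand c hC (Φ.prod_isCharacter q q)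
  refine ⟨m, hm, hF, ?_⟩
  have hJ1 : ∀ j, j < c.e → ∑ χ, m χ * mlt c hC j χ = 1 + if j = 0 then 1 else 0 := by
    intro j hj
    have hv := inner_theta_const c hC (isClassFunction_of_isCharacter (Φ.prod_isCharacter q q))
      (Φ.prod_one q q) (Φ.prod_sum c q q) (K := 1) (fun k hk0 hk => by
        rw [Φ.prod_g c q q hk0 hk, norm_apply_g c hC (hfY 1) hk0 hk, Nat.cast_one]) hj (hJ j)
    rw [if_pos rfl] at hv
    have hd' : (Φ.d : ℤ) = p - c.e := by omega
    have h2 : ((c.e : ℤ) * p) * ((∑ χ, m χ * mlt c hC j χ : ℕ) : ℤ) =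
        ((c.e : ℤ) * p) * ((1 + if j = 0 then 1 else 0 : ℕ) : ℤ) := by
      have hp' : (p : ℤ) = 2 * c.e + 1 := by omega
      rw [hv, hd']; split_ifs <;> push_cast <;> rw [hp'] <;> ring
    exact_mod_cast mul_left_cancel₀ (mul_ne_zero (Int.natCast_ne_zero.mpr c.e_pos.ne')
      (Int.natCast_ne_zero.mpr hp.ne_zero)) h2
  obtain ⟨k, hYk, hRk⟩ := Φ.coeffs hF (h : ℤ) (fun s => if s = q then -1 else 0) (fun w => by
    rw [Φ.prod_x, eta_real (hE ▸ even_two_mul h), ← pow_two, (even_case ht hE _).1]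
    rw [Finset.sum_eq_single q (fun s _ hs => by simp [hs]) (by simp), if_pos rfl]
    push_cast; ring)
  have hone : m (oneChar G) = 1 := by
    have h := hm (oneChar G)
    rw [show Cfsg.classInner (Φ.prod q q) (oneChar G : Cfsg.IrrCharacter G) =
      Cfsg.classInner (Φ.Y q : G → ℂ) (Φ.Y q : G → ℂ) from by
        simp only [Cfsg.classInner, Fam.prod, oneChar_apply, map_one, mul_one],
      classInner_self_irr] at h
    exact_mod_cast h.symm
  obtain ⟨r, hqr, hr⟩ := exists_other ht q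
  have huniv : (Finset.univ : Finset (Cls hx)) = {q, r} :=
    (Finset.eq_univ_of_card _ (by rw [Finset.card_pair hqr, ht])).symm
  have hq' : (m (Φ.Y q) : ℤ) = 1 - k := by
    have := hYk q; rw [hδ, if_pos rfl] at this; linarith
  have hr' : (m (Φ.Y r) : ℤ) = -k := by
    have := hYk r; rw [hδ, if_neg hqr.symm] at this; linarith
  obtain ⟨j₀, hj₀, hmj₀, -⟩ := apply_of_fixd_one c hC (hfY 1)
  have hk : k = 0 := by
    have h0 := hJ1 j₀ hj₀
    rw [Φ.sum_split, Φ.sum_R, hone, mlt_one c hC hj₀, one_mul,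
      Finset.sum_congr (s₁ := Finset.univ) rfl fun s _ => by
        rw [Φ.mlt_Y c hC s, hmj₀ j₀ hj₀, if_pos rfl, mul_one], huniv, Finset.sum_pair hqr] at h0
    split_ifs at h0 <;> omega
  subst hk
  have hY : ∀ s, m (Φ.Y s) = if s = q then 1 else 0 := by
    intro s
    split_ifs with hs
    · subst hs; omega
    · rw [hr s hs]; omega
  refine ⟨hY, ?_⟩
  have htot := sum_mult_fixd c hC hJ1
  rw [Finset.sum_add_distrib, Finset.sum_const, Finset.card_range, smul_eq_mul, mul_one,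
    Finset.sum_ite_eq', if_pos (Finset.mem_range.mpr c.e_pos), Φ.sum_split, Φ.sum_R, hone,
    fixd_oneChar, huniv, Finset.sum_pair hqr, hfY, hfY, hY, hY, if_pos rfl, if_neg hqr.symm] at htot
  rw [Φ.sum_signed (Or.inl hone), hone] at hRk
  have hPle : ∀ χ ∈ Φ.signed 1, m χ * 2 ≤ m χ * fixd c hC χ := by
    intro χ hχ
    obtain ⟨hR, hne, ha⟩ := Φ.mem_signed.mp hχ
    exact Nat.mul_le_mul_left _ (Φ.plus c hC hperf hR hne ha).1
  have hPsum := Finset.sum_le_sum hPle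
  rw [← Finset.sum_mul] at hPsum
  have hM : ∑ χ ∈ Φ.signed (-1), m χ = 0 := by omega
  have hP : ∑ χ ∈ Φ.signed 1, m χ + 1 = h := by omega
  have hM0 := Finset.sum_eq_zero_iff.mp hM
  rw [Finset.sum_eq_zero (s := Φ.signed (-1)) fun χ hχ => by rw [hM0 χ hχ, zero_mul]] at htot
  have hexact : ∀ χ ∈ Φ.signed 1, m χ * 2 = m χ * fixd c hC χ := by
    intro χ hχ
    by_contra hne
    obtain ⟨hR, hn1, ha⟩ := Φ.mem_signed.mp hχ
    obtain ⟨hf, hz⟩ := Φ.plus c hC hperf hR hn1 ha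
    have h1 := Finset.add_sum_erase _ (fun χ => m χ * fixd c hC χ) hχ
    have h2 := Finset.add_sum_erase _ (fun χ => m χ * 2) hχ
    have h3 : ∑ x ∈ (Φ.signed 1).erase χ, m x * 2 ≤
        ∑ x ∈ (Φ.signed 1).erase χ, m x * fixd c hC x :=
      Finset.sum_le_sum fun y hy => hPle y (Finset.mem_of_mem_erase hy)
    rw [← Finset.sum_mul (s := Φ.signed 1)] at h2
    have h4 := hPle χ hχ
    have hm1 : m χ = 1 := by
      rcases Nat.lt_or_ge (m χ) 2 with h5 | h5
      · interval_cases hmc : m χ <;> simp at *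
      · exfalso
        have : m χ * 2 + m χ ≤ m χ * fixd c hC χ := by
          rcases Nat.lt_or_ge (fixd c hC χ) 3 with h6 | h6
          · exact absurd (by rw [show fixd c hC χ = 2 by omega]) hne
          · calc m χ * 2 + m χ = m χ * 3 := by ring
              _ ≤ _ := Nat.mul_le_mul_left _ h6
        omega
    rw [hm1] at h1 h2 h4 hne
    have h7 : fixd c hC χ = 3 := by omega
    rw [h7] at hz
    refine hno χ ?_
    push_cast at hz
    omega
  rw [Finset.sum_congr (s₁ := Φ.signed 1) rfl fun χ hχ => (hexact χ hχ).symm,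
    ← Finset.sum_mul] at htot
  have hO : ∑ χ ∈ (Φ.R ∪ Finset.univ.image Φ.Y)ᶜ, m χ * fixd c hC χ = 1 := by
    rw [huniv]; omega
  have hOm : ∑ χ ∈ (Φ.R ∪ Finset.univ.image Φ.Y)ᶜ, m χ = 1 := by
    refine le_antisymm ?_ ?_
    · rw [← hO]
      refine Finset.sum_le_sum fun χ hχ => ?_
      simp only [Finset.mem_compl, Finset.mem_union, Finset.mem_image, Finset.mem_univ, true_and,
        not_or, not_exists] at hχ
      exact Nat.le_mul_of_pos_right _ (Φ.other_pos c hC hχ.1 hχ.2)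
    · by_contra hc
      have h0 := Finset.sum_eq_zero_iff.mp
        (show ∑ χ ∈ (Φ.R ∪ Finset.univ.image Φ.Y)ᶜ, m χ = 0 by omega)
      rw [Finset.sum_eq_zero fun χ hχ => by rw [h0 χ hχ, zero_mul]] at hO
      omega
  have hle : ∀ χ ∈ Φ.signed 1, m χ ≤ 1 := by
    intro χ hχ
    obtain ⟨hR, hn1, ha⟩ := Φ.mem_signed.mp hχ
    have hf := (Φ.plus c hC hperf hR hn1 ha).1
    by_contra hc
    push Not at hc
    obtain ⟨j, hj, hne0⟩ := Finset.exists_ne_zero_of_sum_ne_zero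
      (show ∑ j ∈ Finset.range c.e, mlt c hC j χ ≠ 0 by rw [fixd] at hf; omega)
    have h1 := hJ1 j (Finset.mem_range.mp hj)
    rw [Φ.sum_split, Φ.sum_R, hone, mlt_one c hC (Finset.mem_range.mp hj), one_mul] at h1
    have h2 : m χ * mlt c hC j χ ≤ ∑ χ ∈ Φ.signed 1, m χ * mlt c hC j χ :=
      Finset.single_le_sum (f := fun χ => m χ * mlt c hC j χ) (fun _ _ => Nat.zero_le _) hχ
    have h3 : m χ ≤ m χ * mlt c hC j χ := Nat.le_mul_of_pos_right _ (Nat.pos_of_ne_zero hne0)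
    split_ifs at h1 <;> omega
  refine ⟨?_, fun χ => ?_, ?_, fun χ hχ => ?_⟩
  · rw [Φ.sum_split, Φ.sum_R, hone, hM, hOm, huniv, Finset.sum_pair hqr, hY, hY, if_pos rfl,
      if_neg hqr.symm]
    omega
  · by_cases hR : χ ∈ Φ.R
    · by_cases h1 : χ = oneChar G
      · rw [h1, hone]
      · rcases Φ.a_sign χ hR with ha | ha
        · exact hle χ (Φ.mem_signed.mpr ⟨hR, h1, ha⟩)
        · rw [hM0 χ (Φ.mem_signed.mpr ⟨hR, h1, ha⟩)]; omega
    · by_cases hYc : ∃ s, Φ.Y s = χ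
      · obtain ⟨s, rfl⟩ := hYc
        rw [hY]
        split_ifs <;> omega
      · push Not at hYc
        rw [← hOm]
        exact Finset.single_le_sum (f := m) (fun _ _ => Nat.zero_le _)
          (by simp [hR, hYc])
  · calc h - 1 = ∑ χ ∈ Φ.signed 1, m χ := by omega
      _ = ∑ χ ∈ (Φ.signed 1).filter (fun χ => m χ ≠ 0), m χ :=
        (Finset.sum_filter_ne_zero _).symm
      _ ≤ _ := by
        rw [Finset.card_eq_sum_ones]
        exact Finset.sum_le_sum fun χ hχ => hle χ (Finset.mem_filter.mp hχ).1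
  · obtain ⟨h1, h2⟩ := Finset.mem_filter.mp hχ
    obtain ⟨hR, hn1, ha⟩ := Φ.mem_signed.mp h1
    have h3 : fixd c hC χ = 2 :=
      (Nat.eq_of_mul_eq_mul_left (Nat.pos_of_ne_zero h2) (hexact χ h1)).symm
    have := (Φ.plus c hC hperf hR hn1 ha).2
    rw [h3] at this
    push_cast at this
    omega

end

set_option maxHeartbeats 1000000 in
include c hC in
/-- The degrees. -/
theorem Fam.degrees_minus (hperf : commutator G = ⊤) (hδ : Φ.δ = -1) (hd : Φ.d + c.e = p)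
    (ht : Nat.card (Cls hx) = 2) {h : ℕ} (hh : c.e = 2 * h) (hh1 : 1 ≤ h)
    (hno : ∀ χ : Cfsg.IrrCharacter G, Cfsg.charDegree (χ : G → ℂ) ≠ 2 * p + 1 ∧
      Cfsg.charDegree (χ : G → ℂ) + 1 ≠ 2 * p) :
    ∀ χ ∈ Φ.R, χ ≠ oneChar G →
      (Φ.a χ = 1 ∧ Cfsg.charDegree (χ : G → ℂ) = p + 1) ∨
      (Φ.a χ = -1 ∧ Cfsg.charDegree (χ : G → ℂ) + 1 = p) := by
  classical
  have hp : p.Prime := Fact.out
  have := Fintype.ofFinite (Cfsg.IrrCharacter G)
  let _ := Fintype.ofFinite (autE (pow_eq_one_of_order hx))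
  let _ := Fintype.ofFinite (Cls hx)
  rw [Nat.card_eq_fintype_card] at ht
  have hE : Nat.card (autE (pow_eq_one_of_order hx)) = 2 * h := hh
  have hte := card_mul_card (E := autE (pow_eq_one_of_order hx))
  rw [← Nat.card_eq_fintype_card (α := autE (pow_eq_one_of_order hx)), hE] at hte
  rw [show Fintype.card ((ZMod p)ˣ ⧸ autE (pow_eq_one_of_order hx)) = 2 from ht] at hte
  have hpe : p = 2 * c.e + 1 := by have := hp.two_le; omega
  have hfY := Φ.fixd_Y_one c hC hδ hd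
  obtain ⟨r, h1r, hr⟩ := exists_other ht (1 : Cls hx)
  obtain ⟨m₁, hm₁, hF₁, hY₁, hs₁, hm11, hc₁, hd₁⟩ :=
    Φ.square_struct c hC hperf hδ hd ht hh hh1 (fun χ => (hno χ).1) 1
  obtain ⟨m₂, hm₂, hF₂, hY₂, hs₂, -, -, -⟩ :=
    Φ.square_struct c hC hperf hδ hd ht hh hh1 (fun χ => (hno χ).1) r
  -- `Y 1 * conj (Y r)`
  obtain ⟨m, hm, hF, hJ⟩ := expand c hC (Φ.prod_isCharacter 1 r)
  have hJ1 : ∀ j, j < c.e → ∑ χ, m χ * mlt c hC j χ = if j = 0 then 1 else 0 := by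
    intro j hj
    have hv := inner_theta_const c hC (isClassFunction_of_isCharacter (Φ.prod_isCharacter 1 r))
      (Φ.prod_one 1 r) (Φ.prod_sum c 1 r) (K := 1) (fun k hk0 hk => by
        rw [Φ.prod_g c 1 r hk0 hk, norm_apply_g c hC (hfY 1) hk0 hk, Nat.cast_one]) hj (hJ j)
    rw [if_neg h1r] at hv
    have hd' : (Φ.d : ℤ) = (c.e : ℤ) + 1 := by omega
    have hp' : (p : ℤ) = 2 * c.e + 1 := by omega
    have h2 : ((c.e : ℤ) * p) * ((∑ χ, m χ * mlt c hC j χ : ℕ) : ℤ) =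
        ((c.e : ℤ) * p) * ((if j = 0 then 1 else 0 : ℕ) : ℤ) := by
      rw [hv, hd']; split_ifs <;> push_cast <;> rw [hp'] <;> ring
    exact_mod_cast mul_left_cancel₀ (mul_ne_zero (Int.natCast_ne_zero.mpr c.e_pos.ne')
      (Int.natCast_ne_zero.mpr hp.ne_zero)) h2
  obtain ⟨k, hYk, hRk⟩ := Φ.coeffs hF (-(h : ℤ)) (fun _ => 0) (fun w => by
    rw [Φ.prod_x, eta_real (hE ▸ even_two_mul h),
      (even_case ht hE _).2 (r * QuotientGroup.mk w) (fun he => h1r (mul_right_cancel he).symm)]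
    simp)
  have hone : m (oneChar G) = 0 := by
    have h := hm (oneChar G)
    rw [show Cfsg.classInner (Φ.prod 1 r) (oneChar G : Cfsg.IrrCharacter G) =
      Cfsg.classInner (Φ.Y 1 : G → ℂ) (Φ.Y r : G → ℂ) from by
        simp only [Cfsg.classInner, Fam.prod, oneChar_apply, map_one, mul_one],
      classInner_irr_of_ne (fun he => h1r (Φ.Y_inj he))] at h
    exact_mod_cast h.symm
  have huniv : (Finset.univ : Finset (Cls hx)) = {1, r} :=
    (Finset.eq_univ_of_card _ (by rw [Finset.card_pair h1r, ht])).symm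
  have hY1' : (m (Φ.Y 1) : ℤ) = -k := by have := hYk 1; rw [hδ] at this; linarith
  have hYr' : (m (Φ.Y r) : ℤ) = -k := by have := hYk r; rw [hδ] at this; linarith
  have htot := sum_mult_fixd c hC hJ1
  rw [Finset.sum_ite_eq', if_pos (Finset.mem_range.mpr c.e_pos), Φ.sum_split, Φ.sum_R, hone,
    zero_mul, huniv, Finset.sum_pair h1r, hfY, hfY] at htot
  have hk : k = 0 := by omega
  subst hk
  rw [Φ.sum_signed (Or.inr hone), hone] at hRk
  have hPle : ∀ χ ∈ Φ.signed 1, m χ * 2 ≤ m χ * fixd c hC χ := fun χ hχ => by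
    obtain ⟨hR, hne, ha⟩ := Φ.mem_signed.mp hχ
    exact Nat.mul_le_mul_left _ (Φ.plus c hC hperf hR hne ha).1
  have hPsum := Finset.sum_le_sum hPle
  rw [← Finset.sum_mul] at hPsum
  have hP : ∑ χ ∈ Φ.signed 1, m χ = 0 := by omega
  have hM : ∑ χ ∈ Φ.signed (-1), m χ = h := by omega
  have hdegM : ∀ χ ∈ Φ.signed (-1), m χ ≠ 0 → Cfsg.charDegree (χ : G → ℂ) + 1 = p := by
    intro χ hχ hne
    obtain ⟨hR, hn1, ha⟩ := Φ.mem_signed.mp hχ
    have h1 : m χ * fixd c hC χ ≤ ∑ χ ∈ Φ.signed (-1), m χ * fixd c hC χ :=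
      Finset.single_le_sum (f := fun χ => m χ * fixd c hC χ) (fun _ _ => Nat.zero_le _) hχ
    have h2 : fixd c hC χ ≤ m χ * fixd c hC χ := Nat.le_mul_of_pos_left _ (Nat.pos_of_ne_zero hne)
    have hz := Φ.minus c hC hR ha
    rcases Nat.lt_or_ge (fixd c hC χ) 1 with h3 | h3
    · rw [show fixd c hC χ = 0 by omega] at hz; push_cast at hz; omega
    · rw [show fixd c hC χ = 1 by omega] at hz
      push_cast at hz
      exact absurd (by omega) (hno χ).2
  rw [Finset.sum_eq_zero (s := Φ.signed (-1)) fun χ hχ => by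
    rcases eq_or_ne (m χ) 0 with h0 | h0
    · rw [h0, zero_mul]
    · obtain ⟨hR, hn1, ha⟩ := Φ.mem_signed.mp hχ
      have hz := Φ.minus c hC hR ha
      have hz' := hdegM χ hχ h0
      have h9 : (p : ℤ) * fixd c hC χ = 0 := by omega
      have h10 : fixd c hC χ = 0 := by
        exact_mod_cast (mul_eq_zero.mp h9).resolve_left (by exact_mod_cast hp.ne_zero)
      rw [h10, mul_zero], Finset.sum_eq_zero (s := Φ.signed 1) fun χ hχ => by
    rw [Finset.sum_eq_zero_iff.mp hP χ hχ, zero_mul]] at htot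
  have hO : ∑ χ ∈ (Φ.R ∪ Finset.univ.image Φ.Y)ᶜ, m χ * fixd c hC χ = 1 := by rw [huniv]; omega
  have hOm : 1 ≤ ∑ χ ∈ (Φ.R ∪ Finset.univ.image Φ.Y)ᶜ, m χ := by
    by_contra hc
    have h0 := Finset.sum_eq_zero_iff.mp
      (show ∑ χ ∈ (Φ.R ∪ Finset.univ.image Φ.Y)ᶜ, m χ = 0 by omega)
    rw [Finset.sum_eq_zero fun χ hχ => by rw [h0 χ hχ, zero_mul]] at hO
    omega
  have hsum : h + 1 ≤ ∑ χ, m χ := by
    rw [Φ.sum_split, Φ.sum_R, hone, hP, hM]
    omega
  -- norms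
  have hnorm : ∑ χ, m χ * m χ = ∑ χ, m₁ χ * m₂ χ := by
    have h1 := inner_expand (F := Φ.prod 1 r) hm hF
    have h2 := inner_expand (F := Φ.prod 1 1) hm₁ hF₂
    have h3 : Cfsg.classInner (Φ.prod 1 r) (Φ.prod 1 r) =
        Cfsg.classInner (Φ.prod 1 1) (Φ.prod r r) := by
      simp only [Cfsg.classInner, Fam.prod, map_mul, Complex.conj_conj]
      congr 1
      exact Finset.sum_congr rfl fun y _ => by ring
    rw [h1, h2] at h3
    exact_mod_cast h3
  have hle : ∑ χ, m₁ χ * m₂ χ + 1 ≤ h + 2 := by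
    have h1 := Finset.add_sum_erase Finset.univ (fun χ => m₁ χ * m₂ χ) (Finset.mem_univ (Φ.Y r))
    have h2 := Finset.add_sum_erase Finset.univ m₂ (Finset.mem_univ (Φ.Y r))
    rw [hY₁ r, if_neg h1r.symm, zero_mul] at h1
    rw [hY₂ r, if_pos rfl, hs₂] at h2
    have h3 : ∀ χ, m₁ χ ≤ 1 → m₁ χ * m₂ χ ≤ m₂ χ := fun χ h => by
      calc m₁ χ * m₂ χ ≤ 1 * m₂ χ := Nat.mul_le_mul_right _ h
        _ = _ := one_mul _
    have h4 : ∑ χ ∈ Finset.univ.erase (Φ.Y r), m₁ χ * m₂ χ ≤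
        ∑ χ ∈ Finset.univ.erase (Φ.Y r), m₂ χ :=
      Finset.sum_le_sum fun χ _ => h3 χ (hm11 χ)
    omega
  have hsq : ∑ χ, m χ ≤ ∑ χ, m χ * m χ := Finset.sum_le_sum fun χ _ => Nat.le_mul_self _
  have hm1 : ∀ χ, m χ ≤ 1 := by
    intro χ
    have h1 := (Finset.sum_eq_sum_iff_of_le (fun χ _ => Nat.le_mul_self (m χ))).mp
      (show ∑ χ, m χ = ∑ χ, m χ * m χ by omega) χ (Finset.mem_univ _)
    by_contra hc
    push Not at hc
    have := Nat.mul_le_mul_right (m χ) hc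
    omega
  set A := (Φ.signed (-1)).filter fun χ => m χ ≠ 0 with hA
  have hcA : h ≤ A.card := by
    calc h = ∑ χ ∈ A, m χ := by rw [hA, Finset.sum_filter_ne_zero]; exact hM.symm
      _ ≤ _ := by
        rw [Finset.card_eq_sum_ones]
        exact Finset.sum_le_sum fun χ _ => hm1 χ
  have hcard := Φ.card_signed c
  set B := (Φ.signed 1).filter fun χ => m₁ χ ≠ 0 with hB
  have hB' := Finset.card_le_card (Finset.filter_subset (fun χ => m₁ χ ≠ 0) (Φ.signed 1))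
  have hA' := Finset.card_le_card (Finset.filter_subset (fun χ => m χ ≠ 0) (Φ.signed (-1)))
  rw [← hA] at hA'
  rw [← hB] at hB'
  have hBeq : B = Φ.signed 1 :=
    Finset.eq_of_subset_of_card_le (Finset.filter_subset _ _) (by omega)
  have hAeq : A = Φ.signed (-1) :=
    Finset.eq_of_subset_of_card_le (Finset.filter_subset _ _) (by omega)
  intro χ hχ hne
  rcases Φ.a_sign χ hχ with ha | ha
  · exact Or.inl ⟨ha, hd₁ χ (show χ ∈ B from hBeq.symm ▸ Φ.mem_signed.mpr ⟨hχ, hne, ha⟩)⟩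
  · have hmem : χ ∈ A := hAeq ▸ Φ.mem_signed.mpr ⟨hχ, hne, ha⟩
    obtain ⟨h1, h2⟩ := Finset.mem_filter.mp hmem
    exact Or.inr ⟨ha, hdegM χ h1 h2⟩

end Cfsg.Agent.Lib.FirstPower.SmallDegree
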