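import Cfsg.Agent.Lib.FirstPower.SmallDegree.Products
import Cfsg.Agent.Lib.FirstPower.SmallDegree.Eta

/-!
# Exceptional degree `(p - 1) / 2`, `p ≡ 3 mod 4`

All other characters that do not vanish on `x` have degree `1`, `p + 1` or `p - 1`.
-/

namespace Cfsg.Agent.Lib.FirstPower.SmallDegree

open Periods Average Consequences PerfectFew
open Cfsg.Agent.Lib Cfsg.Agent.Lib.Characters.Basic
open Family (pow_eq_one_of_order)
open scoped ComplexConjugate

universe u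

variable {p : ℕ} [Fact p.Prime] {G : Type u} [Group G] [Fintype G] {x : G} {hx : orderOf x = p}
variable (c : Comp hx) (hC : Subgroup.centralizer ({x} : Set G) = Subgroup.zpowers x) (Φ : Fam hx)

open scoped Classical in
/-- The nontrivial members of `R` of sign `s`. -/
noncomputable def Fam.signed (s : ℤ) : Finset (Cfsg.IrrCharacter G) :=
  Φ.R.filter fun χ => χ ≠ oneChar G ∧ Φ.a χ = s

theorem Fam.mem_signed {s : ℤ} {χ : Cfsg.IrrCharacter G} :
    χ ∈ Φ.signed s ↔ χ ∈ Φ.R ∧ χ ≠ oneChar G ∧ Φ.a χ = s := by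
  classical
  rw [Fam.signed, Finset.mem_filter]

theorem Fam.sum_R {A : Type*} [AddCommMonoid A] (f : Cfsg.IrrCharacter G → A) :
    ∑ χ ∈ Φ.R, f χ = f (oneChar G) + (∑ χ ∈ Φ.signed 1, f χ + ∑ χ ∈ Φ.signed (-1), f χ) := by
  classical
  rw [← Finset.sum_union, ← Finset.add_sum_erase _ _ Φ.one_mem]
  · congr 1
    refine Finset.sum_congr ?_ fun _ _ => rfl
    ext χ
    simp only [Finset.mem_union, Φ.mem_signed, Finset.mem_erase]
    constructor
    · rintro ⟨h1, h2⟩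
      rcases Φ.a_sign χ h2 with h | h
      · exact Or.inl ⟨h2, h1, h⟩
      · exact Or.inr ⟨h2, h1, h⟩
    · rintro (⟨h2, h1, -⟩ | ⟨h2, h1, -⟩) <;> exact ⟨h1, h2⟩
  · rw [Finset.disjoint_left]
    intro χ h h'
    rw [Φ.mem_signed] at h h'
    omega

theorem Fam.card_signed :
    (Φ.signed 1).card + (Φ.signed (-1)).card + 1 = c.e := by
  have h := Φ.sum_R (fun _ => 1)
  simp only [Finset.sum_const, smul_eq_mul, mul_one] at h
  have := Φ.card_R
  simp only [Comp.e]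
  omega

/-- The fixed dimensions add up. -/
theorem sum_mult_fixd [Fintype (Cfsg.IrrCharacter G)] {m : Cfsg.IrrCharacter G → ℕ}
    {J : ℕ → ℕ} (hJ : ∀ j, j < c.e → ∑ χ, m χ * mlt c hC j χ = J j) :
    ∑ χ, m χ * fixd c hC χ = ∑ j ∈ Finset.range c.e, J j := by
  simp only [fixd, Finset.mul_sum]
  rw [Finset.sum_comm]
  exact Finset.sum_congr rfl fun j hj => hJ j (Finset.mem_range.mp hj)

/-- A constituent meeting a multiplicity bound. -/
theorem mult_le [Fintype (Cfsg.IrrCharacter G)] {m : Cfsg.IrrCharacter G → ℕ}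
    {J : ℕ → ℕ} (hJ : ∀ j, j < c.e → ∑ χ, m χ * mlt c hC j χ = J j) {χ : Cfsg.IrrCharacter G}
    {j : ℕ} (hj : j < c.e) : m χ * mlt c hC j χ ≤ J j :=
  hJ j hj ▸ Finset.single_le_sum (f := fun χ => m χ * mlt c hC j χ) (fun _ _ => Nat.zero_le _)
    (Finset.mem_univ χ)

set_option maxHeartbeats 1000000 in
include c hC in
/-- The degrees. -/
theorem Fam.degrees_plus (hperf : commutator G = ⊤) (hδ : Φ.δ = 1) (hd : Φ.d = c.e)
    (ht : Nat.card (Cls hx) = 2) {L : ℕ} (hL : c.e = 2 * L + 1) (hL1 : 1 ≤ L) :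
    (∀ χ ∈ Φ.R, χ ≠ oneChar G →
      (Φ.a χ = 1 ∧ Cfsg.charDegree (χ : G → ℂ) = p + 1) ∨
      (Φ.a χ = -1 ∧ Cfsg.charDegree (χ : G → ℂ) + 1 = p)) ∧
    ∃ χ ∈ Φ.R, Cfsg.charDegree (χ : G → ℂ) = p + 1 := by
  classical
  have hp : p.Prime := Fact.out
  have := Fintype.ofFinite (Cfsg.IrrCharacter G)
  let _ := Fintype.ofFinite (autE (pow_eq_one_of_order hx))
  let _ := Fintype.ofFinite (Cls hx)
  rw [Nat.card_eq_fintype_card] at ht
  have hE : Nat.card (autE (pow_eq_one_of_order hx)) = 2 * L + 1 := hL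
  have hte := card_mul_card (E := autE (pow_eq_one_of_order hx))
  rw [← Nat.card_eq_fintype_card (α := autE (pow_eq_one_of_order hx)), hE] at hte
  rw [show Fintype.card ((ZMod p)ˣ ⧸ autE (pow_eq_one_of_order hx)) = 2 from ht] at hte
  have hpe : p = 2 * c.e + 1 := by have := hp.two_le; omega
  have hfY : ∀ q, fixd c hC (Φ.Y q) = 0 := by
    intro q
    have h := Φ.fixd_Y c hC q
    rw [hδ, hd, one_mul, sub_self] at h
    exact_mod_cast (mul_eq_zero.mp h).resolve_left (by exact_mod_cast hp.ne_zero)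
  have hg0 : ∀ k, k ≠ 0 → k < c.e → (Φ.Y 1 : G → ℂ) (c.g ^ k) = 0 :=
    fun k hk0 hk => apply_of_fixd_zero c hC (hfY 1) hk0 hk
  -- `χ * conj χ`
  obtain ⟨m₁, hm₁, hF₁, hJ₁⟩ := expand c hC (Φ.prod_isCharacter 1 1)
  have hJ1 : ∀ j, j < c.e → ∑ χ, m₁ χ * mlt c hC j χ = 1 := by
    intro j hj
    have h := inner_theta_const c hC (isClassFunction_of_isCharacter (Φ.prod_isCharacter 1 1))
      (Φ.prod_one 1 1) (Φ.prod_sum c 1 1) (K := 0) (fun k hk0 hk => by
        rw [Φ.prod_g c 1 1 hk0 hk, hg0 k hk0 hk]; simp) hj (hJ₁ j)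
    rw [if_pos rfl, hd] at h
    have h2 : ((c.e : ℤ) * p) * ((∑ χ, m₁ χ * mlt c hC j χ : ℕ) : ℤ) = ((c.e : ℤ) * p) * 1 := by
      rw [h]; push_cast; ring
    have h3 := mul_left_cancel₀ (mul_ne_zero (Int.natCast_ne_zero.mpr c.e_pos.ne')
      (Int.natCast_ne_zero.mpr hp.ne_zero)) h2
    exact_mod_cast h3
  obtain ⟨k₁, hY1, hR1⟩ := Φ.coeffs hF₁ ((L + 1 : ℕ) : ℤ) (fun _ => 0) (fun w => by
    rw [Φ.prod_x]
    simp only [Int.cast_zero, zero_mul, Finset.sum_const_zero, add_zero, Int.cast_natCast]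
    exact (odd_case ht hE _).1)
  have hk1 : 0 ≤ k₁ := by
    have := hY1 1
    rw [hδ] at this
    omega
  have hone1 : m₁ (oneChar G) = 1 := by
    have h := hm₁ (oneChar G)
    rw [show Cfsg.classInner (Φ.prod 1 1) (oneChar G : Cfsg.IrrCharacter G) =
      Cfsg.classInner (Φ.Y 1 : G → ℂ) (Φ.Y 1 : G → ℂ) from by
        simp only [Cfsg.classInner, Fam.prod, oneChar_apply, map_one, mul_one],
      classInner_self_irr] at h
    exact_mod_cast h.symm
  have htot1 := sum_mult_fixd c hC hJ1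
  rw [Finset.sum_const, Finset.card_range, smul_eq_mul, mul_one, Φ.sum_split, Φ.sum_R,
    hone1, one_mul] at htot1
  have hfone : fixd c hC (oneChar G) = 1 := by
    rw [fixd, Finset.sum_eq_single 0]
    · rw [mlt_one c hC c.e_pos, if_pos rfl]
    · intro j hj hj0
      rw [mlt_one c hC (Finset.mem_range.mp hj), if_neg hj0]
    · exact fun h => absurd (Finset.mem_range.mpr c.e_pos) h
  rw [Φ.sum_R, hone1, Φ.a_one] at hR1
  have hPle : 2 * ∑ χ ∈ Φ.signed 1, m₁ χ ≤ ∑ χ ∈ Φ.signed 1, m₁ χ * fixd c hC χ := by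
    rw [Finset.mul_sum]
    refine Finset.sum_le_sum fun χ hχ => ?_
    obtain ⟨hR, hne, ha⟩ := Φ.mem_signed.mp hχ
    rw [mul_comm 2]
    exact Nat.mul_le_mul_left _ (Φ.plus c hC hperf hR hne ha).1
  have hsP : ∑ χ ∈ Φ.signed 1, Φ.a χ * (m₁ χ : ℤ) = ((∑ χ ∈ Φ.signed 1, m₁ χ : ℕ) : ℤ) := by
    push_cast
    exact Finset.sum_congr rfl fun χ hχ => by rw [(Φ.mem_signed.mp hχ).2.2, one_mul]
  have hsM : ∑ χ ∈ Φ.signed (-1), Φ.a χ * (m₁ χ : ℤ) =
      -((∑ χ ∈ Φ.signed (-1), m₁ χ : ℕ) : ℤ) := by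
    push_cast
    rw [← Finset.sum_neg_distrib]
    exact Finset.sum_congr rfl fun χ hχ => by rw [(Φ.mem_signed.mp hχ).2.2, neg_one_mul]
  rw [hsP, hsM] at hR1
  have hPL : ∑ χ ∈ Φ.signed 1, m₁ χ = L := by omega
  have hk10 : k₁ = 0 := by omega
  have hexact : ∀ χ ∈ Φ.signed 1, 2 * m₁ χ = m₁ χ * fixd c hC χ := by
    refine (Finset.sum_eq_sum_iff_of_le (fun χ hχ => ?_)).mp ?_
    · obtain ⟨hR, hne, ha⟩ := Φ.mem_signed.mp hχ
      rw [mul_comm 2]
      exact Nat.mul_le_mul_left _ (Φ.plus c hC hperf hR hne ha).1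
    · rw [← Finset.mul_sum]; omega
  have hle1 : ∀ χ ∈ Φ.signed 1, m₁ χ ≤ 1 := by
    intro χ hχ
    obtain ⟨hR, hne, ha⟩ := Φ.mem_signed.mp hχ
    have hf := (Φ.plus c hC hperf hR hne ha).1
    obtain ⟨j, hj, hne0⟩ := Finset.exists_ne_zero_of_sum_ne_zero
      (show ∑ j ∈ Finset.range c.e, mlt c hC j χ ≠ 0 by rw [fixd] at hf; omega)
    have := mult_le c hC hJ1 (χ := χ) (Finset.mem_range.mp hj)
    have h' : m₁ χ ≤ m₁ χ * mlt c hC j χ := Nat.le_mul_of_pos_right _ (Nat.pos_of_ne_zero hne0)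
    omega
  set A₁ := (Φ.signed 1).filter fun χ => m₁ χ ≠ 0 with hA₁
  have hcardA : A₁.card = L := by
    rw [← hPL, ← Finset.sum_filter_ne_zero, ← hA₁, Finset.card_eq_sum_ones]
    refine Finset.sum_congr rfl fun χ hχ => ?_
    obtain ⟨h1, h2⟩ := Finset.mem_filter.mp hχ
    have := hle1 χ h1
    omega
  have hdegA : ∀ χ ∈ A₁, Cfsg.charDegree (χ : G → ℂ) = p + 1 := by
    intro χ hχ
    obtain ⟨h1, h2⟩ := Finset.mem_filter.mp hχ
    obtain ⟨hR, hne, ha⟩ := Φ.mem_signed.mp h1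
    have h3 : fixd c hC χ = 2 := by
      have := hexact χ h1
      rw [mul_comm 2] at this
      exact (Nat.eq_of_mul_eq_mul_left (Nat.pos_of_ne_zero h2) this).symm
    have := (Φ.plus c hC hperf hR hne ha).2
    rw [h3] at this
    push_cast at this
    omega
  -- `χ * χ`
  set F₂ : G → ℂ := fun y => (Φ.Y 1 : G → ℂ) y * (Φ.Y 1 : G → ℂ) y with hF₂def
  have hF₂c : Cfsg.IsCharacter G F₂ := isCharacter_mul (isCharacter_irr _) (isCharacter_irr _)
  obtain ⟨m₂, hm₂, hF₂, hJ₂⟩ := expand c hC hF₂c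
  have hx2 : ∀ w : (ZMod p)ˣ, F₂ (x ^ (w : ZMod p).val) =
      -eta (autE (pow_eq_one_of_order hx)) (QuotientGroup.mk w) - (L + 1 : ℕ) := by
    intro w
    have h := (odd_case (E := autE (pow_eq_one_of_order hx)) ht hE (QuotientGroup.mk w)).2
    rw [pow_two] at h
    simp only [hF₂def, Φ.valY, hδ, Int.cast_one, one_mul]
    exact h
  have hsum2 : ∑ w : (ZMod p)ˣ, F₂ (x ^ (w : ZMod p).val) = ((-(c.e : ℤ) ^ 2 : ℤ) : ℂ) := by
    have h0 := sum_eta_units (hx := hx) (1 : Cls hx)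
    simp only [one_mul, ← Nat.card_eq_fintype_card, hE] at h0
    rw [Finset.sum_congr rfl fun w _ => hx2 w, Finset.sum_sub_distrib, Finset.sum_neg_distrib, h0,
      Finset.sum_const, Finset.card_univ, ZMod.card_units, nsmul_eq_mul,
      show p - 1 = 2 * (2 * L + 1) by omega, hL]
    push_cast; ring
  have hJ2 : ∀ j, j < c.e → ∑ χ, m₂ χ * mlt c hC j χ = 0 := by
    intro j hj
    have h := inner_theta_const c hC (isClassFunction_of_isCharacter hF₂c)
      (A := (c.e : ℤ) ^ 2) (by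
        simp only [hF₂def, DegreeBounds.Basic.charDegree_irr, ← hd]
        push_cast; ring)
      hsum2 (K := 0) (fun k hk0 hk => by simp only [hF₂def, hg0 k hk0 hk]; simp) hj (hJ₂ j)
    have h2 : ((c.e : ℤ) * p) * ((∑ χ, m₂ χ * mlt c hC j χ : ℕ) : ℤ) = 0 := by
      rw [h]; push_cast; ring
    exact_mod_cast (mul_eq_zero.mp h2).resolve_left (mul_ne_zero
      (Int.natCast_ne_zero.mpr c.e_pos.ne') (Int.natCast_ne_zero.mpr hp.ne_zero))
  have hzero2 : ∀ χ, fixd c hC χ ≠ 0 → m₂ χ = 0 := by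
    intro χ hf
    obtain ⟨j, hj, hne0⟩ := Finset.exists_ne_zero_of_sum_ne_zero (show
      ∑ j ∈ Finset.range c.e, mlt c hC j χ ≠ 0 from hf)
    have := mult_le c hC hJ2 (χ := χ) (Finset.mem_range.mp hj)
    exact (Nat.mul_eq_zero.mp (Nat.le_zero.mp this)).resolve_right hne0
  obtain ⟨k₂, hY2, hR2⟩ := Φ.coeffs hF₂ (-((L + 1 : ℕ) : ℤ))
    (fun q => if q = 1 then -1 else 0) (fun w => by
    rw [hx2, Finset.sum_eq_single 1 (fun q _ hq => by simp [hq]) (by simp), if_pos rfl, one_mul]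
    push_cast; ring)
  rw [Φ.sum_R, hzero2 (oneChar G) (by rw [hfone]; exact one_ne_zero),
    Finset.sum_eq_zero (s := Φ.signed 1) fun χ hχ => by
      obtain ⟨hR, hne, ha⟩ := Φ.mem_signed.mp hχ
      rw [hzero2 χ (by have := (Φ.plus c hC hperf hR hne ha).1; omega)]; simp,
    Finset.sum_congr rfl (g := fun χ => -(m₂ χ : ℤ)) (fun χ hχ => by
      rw [(Φ.mem_signed.mp hχ).2.2, neg_one_mul]), Finset.sum_neg_distrib, Nat.cast_zero,
    mul_zero, zero_add, zero_add] at hR2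
  obtain ⟨r, hr1, hr⟩ := exists_other ht (1 : Cls hx)
  have hYr : (m₂ (Φ.Y r) : ℤ) = k₂ := by
    have := hY2 r; rw [hδ, one_mul, if_neg hr1.symm] at this; linear_combination this
  have hY11 : (m₂ (Φ.Y 1) : ℤ) = k₂ - 1 := by
    have := hY2 1; rw [hδ, one_mul, if_pos rfl] at this; linear_combination this
  -- norms
  have hnorm : ∑ χ, m₁ χ * m₁ χ = ∑ χ, m₂ χ * m₂ χ := by
    have h1 := inner_expand (F := Φ.prod 1 1) hm₁ hF₁
    have h2 := inner_expand (F := F₂) hm₂ hF₂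
    have h3 : Cfsg.classInner (Φ.prod 1 1) (Φ.prod 1 1) = Cfsg.classInner F₂ F₂ := by
      simp only [Cfsg.classInner, Fam.prod, hF₂def, map_mul, Complex.conj_conj]
      congr 1
      exact Finset.sum_congr rfl fun y _ => by ring
    rw [h1, h2] at h3
    exact_mod_cast h3
  have hrest1 : ∀ χ, χ ∉ Φ.R → (∀ q, Φ.Y q ≠ χ) → m₁ χ = 0 := by
    intro χ h h'
    have hz : ∑ χ ∈ (Φ.R ∪ Finset.univ.image Φ.Y)ᶜ, m₁ χ * fixd c hC χ = 0 := by omega
    have := Finset.sum_eq_zero_iff.mp hz χ (by simp [h, h'])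
    have hf := Φ.other_pos c hC h h'
    exact (Nat.mul_eq_zero.mp this).resolve_right (by omega)
  have hM0 : ∀ χ ∈ Φ.signed (-1), m₁ χ = 0 := Finset.sum_eq_zero_iff.mp (by omega)
  have hYz : ∀ q, m₁ (Φ.Y q) = 0 := fun q => by
    have := hY1 q; rw [hδ, hk10] at this; omega
  rw [Φ.sum_split, Φ.sum_split, Φ.sum_R, Φ.sum_R, hone1, hzero2 (oneChar G) (by rw [hfone]; omega),
    Finset.sum_eq_zero (s := Φ.signed (-1)) fun χ hχ => by rw [hM0 χ hχ, zero_mul],
    Finset.sum_eq_zero (s := Finset.univ) fun q _ => by rw [hYz q, zero_mul],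
    Finset.sum_eq_zero (s := (_ : Finset (Cfsg.IrrCharacter G))ᶜ) fun χ hχ => by
      simp only [Finset.mem_compl, Finset.mem_union, Finset.mem_image, Finset.mem_univ, true_and,
        not_or, not_exists] at hχ
      rw [hrest1 χ hχ.1 hχ.2, zero_mul],
    Finset.sum_eq_zero (s := Φ.signed 1) (f := fun χ => m₂ χ * m₂ χ) fun χ hχ => by
      obtain ⟨hR, hne, ha⟩ := Φ.mem_signed.mp hχ
      rw [hzero2 χ (by have := (Φ.plus c hC hperf hR hne ha).1; omega), zero_mul],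
    Finset.sum_eq_zero (s := (_ : Finset (Cfsg.IrrCharacter G))ᶜ) fun χ hχ => by
      simp only [Finset.mem_compl, Finset.mem_union, Finset.mem_image, Finset.mem_univ, true_and,
        not_or, not_exists] at hχ
      rw [hzero2 χ (by have := Φ.other_pos c hC hχ.1 hχ.2; omega), zero_mul],
    show (Finset.univ : Finset (Cls hx)) = {1, r} from
      (Finset.eq_univ_of_card _ (by rw [Finset.card_pair hr1, ht])).symm,
    Finset.sum_pair hr1,
    Finset.sum_congr (s₁ := Φ.signed 1) rfl (g := m₁) fun χ hχ => by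
      have := hle1 χ hχ; interval_cases m₁ χ <;> rfl, hPL] at hnorm
  have hsq : ∑ χ ∈ Φ.signed (-1), m₂ χ ≤ ∑ χ ∈ Φ.signed (-1), m₂ χ * m₂ χ :=
    Finset.sum_le_sum fun χ _ => Nat.le_mul_self _
  have hR2' : ((∑ χ ∈ Φ.signed (-1), m₂ χ : ℕ) : ℤ) = (L : ℤ) + 1 - k₂ := by
    push_cast at hR2 ⊢
    linear_combination -hR2
  set S := ∑ χ ∈ Φ.signed (-1), m₂ χ with hS
  set S2 := ∑ χ ∈ Φ.signed (-1), m₂ χ * m₂ χ with hS2
  have hZ : (1 : ℤ) + L ≥ (k₂ - 1) * (k₂ - 1) + k₂ * k₂ + S := by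
    have h := congrArg (Nat.cast : ℕ → ℤ) hnorm
    push_cast at h
    rw [hYr, hY11] at h
    have : (S : ℤ) ≤ S2 := by exact_mod_cast hsq
    linarith
  have hk2 : k₂ = 1 := by
    have h0 : 1 ≤ k₂ := by omega
    by_contra h
    have h2 : 2 ≤ k₂ := by omega
    nlinarith
  rw [hk2] at hR2' hYr hY11
  have hSS : S2 = S := by
    have h := congrArg (Nat.cast : ℕ → ℤ) hnorm
    push_cast at h
    rw [hYr, hY11] at h
    have : (S2 : ℤ) = S := by linarith
    exact_mod_cast this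
  have hle2 : ∀ χ ∈ Φ.signed (-1), m₂ χ ≤ 1 := by
    intro χ hχ
    have h := (Finset.sum_eq_sum_iff_of_le (fun χ _ => Nat.le_mul_self (m₂ χ))).mp hSS.symm χ hχ
    by_contra hc
    push Not at hc
    have := Nat.mul_le_mul_right (m₂ χ) hc
    omega
  set A₂ := (Φ.signed (-1)).filter fun χ => m₂ χ ≠ 0 with hA₂
  have hcardA2 : A₂.card = L := by
    rw [show L = S by omega, hS, ← Finset.sum_filter_ne_zero, ← hA₂, Finset.card_eq_sum_ones]
    refine Finset.sum_congr rfl fun χ hχ => ?_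
    obtain ⟨h1, h2⟩ := Finset.mem_filter.mp hχ
    have := hle2 χ h1
    omega
  have hcard := Φ.card_signed c
  have hA1le := Finset.card_le_card (Finset.filter_subset (fun χ => m₁ χ ≠ 0) (Φ.signed 1))
  have hA2le := Finset.card_le_card (Finset.filter_subset (fun χ => m₂ χ ≠ 0) (Φ.signed (-1)))
  rw [← hA₁] at hA1le
  rw [← hA₂] at hA2le
  have hAeq : A₁ = Φ.signed 1 :=
    Finset.eq_of_subset_of_card_le (Finset.filter_subset _ _) (by omega)
  have hA2eq : A₂ = Φ.signed (-1) :=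
    Finset.eq_of_subset_of_card_le (Finset.filter_subset _ _) (by omega)
  refine ⟨fun χ hχ hne => ?_, ?_⟩
  · rcases Φ.a_sign χ hχ with ha | ha
    · exact Or.inl ⟨ha, hdegA χ (hAeq ▸ Φ.mem_signed.mpr ⟨hχ, hne, ha⟩)⟩
    · refine Or.inr ⟨ha, ?_⟩
      have hmem : χ ∈ A₂ := hA2eq ▸ Φ.mem_signed.mpr ⟨hχ, hne, ha⟩
      have hf : fixd c hC χ = 0 := by
        by_contra hf
        exact (Finset.mem_filter.mp hmem).2 (hzero2 χ hf)
      have := Φ.minus c hC hχ ha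
      rw [hf] at this
      push_cast at this
      omega
  · obtain ⟨χ, hχ⟩ := Finset.card_pos.mp (show 0 < A₁.card by omega)
    exact ⟨χ, (Φ.mem_signed.mp (Finset.mem_filter.mp hχ).1).1, hdegA χ hχ⟩

end Cfsg.Agent.Lib.FirstPower.SmallDegree
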