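import Cfsg.Agent.Lib.FirstPower.SmallDegree.Setup

/-!
# Products of exceptional characters
-/

namespace Cfsg.Agent.Lib.FirstPower.SmallDegree

open Periods Average Consequences PerfectFew
open Cfsg.Agent.Lib Cfsg.Agent.Lib.Characters.Basic
open Family (pow_eq_one_of_order)
open scoped ComplexConjugate

universe u

variable {p : ℕ} [Fact p.Prime] {G : Type u} [Group G] [Fintype G] {x : G} {hx : orderOf x = p}
variable (c : Comp hx) (hC : Subgroup.centralizer ({x} : Set G) = Subgroup.zpowers x) (Φ : Fam hx)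
variable [Fintype (Cfsg.IrrCharacter G)] [Fintype (autE (pow_eq_one_of_order hx))]
  [Fintype (Cls hx)]

/-- The product of `Y q` and the conjugate of `Y r`. -/
def Fam.prod (q r : Cls hx) : G → ℂ := fun y => (Φ.Y q : G → ℂ) y * conj ((Φ.Y r : G → ℂ) y)

theorem Fam.prod_isCharacter (q r : Cls hx) : Cfsg.IsCharacter G (Φ.prod q r) :=
  isCharacter_mul (isCharacter_irr _) (isCharacter_conj (isCharacter_irr _))

theorem Fam.prod_one (q r : Cls hx) : Φ.prod q r 1 = ((Φ.d : ℤ) ^ 2 : ℤ) := by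
  simp [Fam.prod, DegreeBounds.Basic.charDegree_irr, Φ.deg_Y, sq]

theorem Fam.sq_delta : (Φ.δ : ℂ) * Φ.δ = 1 := by
  rcases Φ.hδ with h | h <;> simp [h]

theorem Fam.prod_x (q r : Cls hx) (w : (ZMod p)ˣ) :
    Φ.prod q r (x ^ (w : ZMod p).val) =
      eta _ (q * QuotientGroup.mk w) * conj (eta _ (r * QuotientGroup.mk w)) := by
  simp only [Fam.prod, Φ.valY, map_mul, map_intCast]
  linear_combination (eta _ (q * QuotientGroup.mk w) * conj (eta _ (r * QuotientGroup.mk w))) *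
    Φ.sq_delta

open scoped Classical in
theorem Fam.prod_sum (q r : Cls hx) :
    ∑ w : (ZMod p)ˣ, Φ.prod q r (x ^ (w : ZMod p).val) =
      (((c.e : ℤ) * ((if q = r then (p : ℤ) else 0) - c.e) : ℤ) : ℂ) := by
  rw [Finset.sum_congr rfl fun w _ => Φ.prod_x q r w,
    sum_units_eq (hx := hx) fun s => eta _ (q * s) * conj (eta _ (r * s)),
    Finset.sum_congr rfl fun s _ => show eta _ (q * s) * conj (eta _ (r * s)) =
      eta _ (s * q) * conj (eta _ (s * r)) by rw [mul_comm q, mul_comm r], sum_eta_mul_conj]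
  simp only [Comp.e, Nat.card_eq_fintype_card]
  split_ifs <;> push_cast <;> ring

theorem Fam.not_dvd_pow_g {k : ℕ} (hk0 : k ≠ 0) (hk : k < c.e) : ¬ p ∣ orderOf (c.g ^ k) := by
  intro h
  have h1 : orderOf (c.g ^ k) ∣ c.e := (orderOf_pow_dvd k).trans c.ord_g.dvd
  have h2 := Nat.le_of_dvd c.e_pos (h.trans h1)
  have h3 := Nat.le_of_dvd Nat.card_pos
    (Subgroup.card_subgroup_dvd_card (autE (pow_eq_one_of_order hx)))
  have h4 : Nat.card (ZMod p)ˣ = p - 1 := by rw [Nat.card_eq_fintype_card, ZMod.card_units]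
  have h5 : p ≤ Nat.card (ZMod p)ˣ := le_trans h2 h3
  have := (Fact.out : p.Prime).two_le
  omega

theorem Fam.prod_g (q r : Cls hx) {k : ℕ} (hk0 : k ≠ 0) (hk : k < c.e) :
    Φ.prod q r (c.g ^ k) =
      (Φ.Y 1 : G → ℂ) (c.g ^ k) * conj ((Φ.Y 1 : G → ℂ) (c.g ^ k)) := by
  rw [Fam.prod, Φ.regY q _ (Fam.not_dvd_pow_g c hk0 hk), Φ.regY r _ (Fam.not_dvd_pow_g c hk0 hk)]

/-- The exceptional characters agree on `N` off `⟨x⟩`. -/
theorem Fam.mlt_Y (q : Cls hx) (j : ℕ) : mlt c hC j (Φ.Y q) = mlt c hC j (Φ.Y 1) := by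
  have key : ∀ r : Cls hx, ((c.e * p : ℕ) : ℂ) * (mlt c hC j (Φ.Y r) : ℂ) =
      (Φ.d : ℂ) + (-(Φ.δ : ℂ) * (c.e : ℂ)) + (p : ℂ) * ∑ k ∈ (Finset.range c.e).erase 0,
        conj ((Φ.Y 1 : G → ℂ) (c.g ^ k)) * c.ω ^ (j * k) := by
    intro r
    rw [← mlt_spec, c.inner_theta hC (isClassFunction_irr _), sum_zmod_split, ZMod.val_zero,
      pow_zero, DegreeBounds.Basic.charDegree_irr, Φ.deg_Y, map_natCast, ← map_sum,
      Finset.sum_congr rfl (fun w _ => Φ.valY r w), ← Finset.mul_sum, sum_eta_units, map_mul,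
      map_intCast, map_neg, map_natCast]
    simp only [Comp.e, Nat.card_eq_fintype_card]
    rw [Finset.sum_congr rfl fun k hk => by
      rw [Φ.regY r _ (Fam.not_dvd_pow_g c (Finset.mem_erase.mp hk).1
        (by simpa [Comp.e, Nat.card_eq_fintype_card] using (Finset.mem_erase.mp hk).2))]]
    ring
  have h := (key q).trans (key 1).symm
  exact_mod_cast mul_left_cancel₀
    (Nat.cast_ne_zero.mpr (Nat.mul_pos c.e_pos (Fact.out : p.Prime).pos).ne') h

/-- The inner products with the induced functions, for constant values off `⟨x⟩` on `N`. -/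
theorem inner_theta_const {F : G → ℂ} (hF : Cfsg.IsClassFunction G F) {A B : ℤ} {K : ℕ}
    (hA : F 1 = A) (hB : ∑ w : (ZMod p)ˣ, F (x ^ (w : ZMod p).val) = B)
    (hK : ∀ k, k ≠ 0 → k < c.e → F (c.g ^ k) = K) {j : ℕ} (hj : j < c.e) {J : ℕ}
    (hJ : Cfsg.classInner (c.theta hC j) F = J) :
    ((c.e : ℤ) * p) * J = A + B + p * K * (if j = 0 then (c.e : ℤ) else 0) - p * K := by
  have h := c.inner_theta hC hF j
  rw [hJ, sum_zmod_split, ZMod.val_zero, pow_zero, hA, map_intCast, ← map_sum, hB, map_intCast,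
    Finset.sum_congr rfl fun k hk => by
      rw [hK k (Finset.mem_erase.mp hk).1 (Finset.mem_range.mp (Finset.mem_erase.mp hk).2),
        map_natCast], ← Finset.mul_sum] at h
  have hsum : ∑ k ∈ (Finset.range c.e).erase 0, c.ω ^ (j * k) =
      (if j = 0 then (c.e : ℂ) else 0) - 1 := by
    have h1 := Finset.add_sum_erase _ (fun k => c.ω ^ (j * k)) (Finset.mem_range.mpr c.e_pos)
    simp only [mul_zero, pow_zero] at h1
    have h2 : ∑ k ∈ Finset.range c.e, c.ω ^ (j * k) = if j = 0 then (c.e : ℂ) else 0 := by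
      split_ifs with hj0
      · subst hj0; simp
      · simp only [pow_mul]
        rw [geom_sum_eq (c.ω_spec.pow_ne_one_of_pos_of_lt hj0 hj), ← pow_mul, mul_comm j, pow_mul,
          c.ω_spec.pow_eq_one, one_pow, sub_self, zero_div]
    linear_combination h1 + h2
  rw [hsum] at h
  have h' : ((((c.e : ℤ) * p) * J : ℤ) : ℂ) =
      ((A + B + p * K * (if j = 0 then (c.e : ℤ) else 0) - p * K : ℤ) : ℂ) := by
    push_cast at h ⊢
    linear_combination h
  exact_mod_cast h'

end Cfsg.Agent.Lib.FirstPower.SmallDegree
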