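import Cfsg.Agent.Lib.FirstPower.PerfectFew.Cases

/-!
# Characters of a group with a self-centralizing subgroup of order `p`: fixed spaces of `⟨x⟩`
-/

namespace Cfsg.Agent.Lib.FirstPower.SmallDegree

open Periods Average Consequences PerfectFew
open Cfsg.Agent.Lib Cfsg.Agent.Lib.Characters.Basic
open Family (pow_eq_one_of_order)
open scoped ComplexConjugate

universe u

variable {p : ℕ} [Fact p.Prime] {G : Type u} [Group G] [Fintype G] {x : G} {hx : orderOf x = p}

/-- The coset space of the exponents fusing `x`. -/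
abbrev Cls (hx : orderOf x = p) := (ZMod p)ˣ ⧸ autE (pow_eq_one_of_order hx)

/-- The characters not vanishing on `x`. -/
structure Fam (hx : orderOf x = p) where
  R : Finset (Cfsg.IrrCharacter G)
  Y : Cls hx → Cfsg.IrrCharacter G
  a : Cfsg.IrrCharacter G → ℤ
  δ : ℤ
  Y_inj : Function.Injective Y
  Y_notR : ∀ q, Y q ∉ R
  hδ : δ = 1 ∨ δ = -1
  one_mem : oneChar G ∈ R
  a_one : a (oneChar G) = 1
  card_R : R.card = Nat.card (autE (pow_eq_one_of_order hx))
  a_sign : ∀ χ ∈ R, a χ = 1 ∨ a χ = -1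
  valR : ∀ χ ∈ R, ∀ w : (ZMod p)ˣ, (χ : G → ℂ) (x ^ (w : ZMod p).val) = a χ
  valY : ∀ q, ∀ w : (ZMod p)ˣ, (Y q : G → ℂ) (x ^ (w : ZMod p).val) =
    δ * eta _ (q * QuotientGroup.mk w)
  valO : ∀ χ, χ ∉ R → (∀ q, Y q ≠ χ) → ∀ w : (ZMod p)ˣ,
    (χ : G → ℂ) (x ^ (w : ZMod p).val) = 0
  regY : ∀ q, ∀ g : G, ¬ p ∣ orderOf g → (Y q : G → ℂ) g = (Y 1 : G → ℂ) g
  rel : ∀ g : G, ¬ p ∣ orderOf g → ∑ χ ∈ R, (a χ : ℂ) * (χ : G → ℂ) g = δ * (Y 1 : G → ℂ) g

theorem exists_fam (hC : Subgroup.centralizer ({x} : Set G) = Subgroup.zpowers x) :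
    Nonempty (Fam hx) := by
  have h2 := PerfectFew.not_sq_dvd hx hC
  obtain ⟨R, Y, a, δ, hYinj, hYR, hδ, h1R, ha1, hRcard, hR, hY, hoth, hYreg, hrel⟩ :=
    Family.exists_family hx h2 (isVPart_bot hx hC)
  exact ⟨⟨R, Y, a, δ, hYinj, hYR, hδ, h1R, ha1, hRcard, fun χ hχ => (hR χ hχ).1,
    fun χ hχ w => by simpa using (hR χ hχ).2 w 1 (one_mem _),
    fun q w => by simpa using hY q w 1 (one_mem _),
    fun χ h h' w => by
      have := hoth χ h h' w
      rwa [aval_bot] at this, hYreg, hrel⟩⟩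

omit [Fintype G] in
theorem not_dvd_one : ¬ p ∣ orderOf (1 : G) := by
  rw [orderOf_one, Nat.dvd_one]; exact (Fact.out : p.Prime).ne_one

theorem sum_eta_units [Fintype (autE (pow_eq_one_of_order hx))] [Fintype (Cls hx)] (q : Cls hx) :
    ∑ w : (ZMod p)ˣ, eta _ (q * QuotientGroup.mk w) =
      -(Fintype.card (autE (pow_eq_one_of_order hx)) : ℂ) := by
  classical
  rw [← Finset.sum_fiberwise Finset.univ (fun w : (ZMod p)ˣ => (QuotientGroup.mk w : Cls hx))]
  rw [Finset.sum_congr rfl fun r _ => by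
    rw [Finset.sum_congr rfl fun w hw => by rw [(Finset.mem_filter.mp hw).2], Finset.sum_const,
      card_fiber, nsmul_eq_mul], ← Finset.mul_sum]
  rw [show ∑ r, eta (autE (pow_eq_one_of_order hx)) (q * r) = -1 by
    rw [← sum_eta_shift (autE (pow_eq_one_of_order hx)) q]
    exact Finset.sum_congr rfl fun r _ => by rw [mul_comm q]]
  ring

theorem sum_units_eq [Fintype (autE (pow_eq_one_of_order hx))] [Fintype (Cls hx)]
    (f : Cls hx → ℂ) :
    ∑ w : (ZMod p)ˣ, f (QuotientGroup.mk w) =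
      (Fintype.card (autE (pow_eq_one_of_order hx)) : ℂ) * ∑ q, f q := by
  classical
  rw [← Finset.sum_fiberwise Finset.univ (fun w : (ZMod p)ˣ => (QuotientGroup.mk w : Cls hx)),
    Finset.mul_sum]
  refine Finset.sum_congr rfl fun r _ => ?_
  rw [Finset.sum_congr rfl fun w hw => by rw [(Finset.mem_filter.mp hw).2], Finset.sum_const,
    card_fiber, nsmul_eq_mul]

variable (c : Comp hx) (hC : Subgroup.centralizer ({x} : Set G) = Subgroup.zpowers x)

/-- Multiplicity of the linear character `j` of `N`. -/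
noncomputable def mlt (j : ℕ) (χ : Cfsg.IrrCharacter G) : ℕ := (c.exists_mult hC j χ).choose

theorem mlt_spec (j : ℕ) (χ : Cfsg.IrrCharacter G) :
    Cfsg.classInner (c.theta hC j) χ = mlt c hC j χ := (c.exists_mult hC j χ).choose_spec

/-- Dimension of the fixed space of `⟨x⟩`. -/
noncomputable def fixd (χ : Cfsg.IrrCharacter G) : ℕ := ∑ j ∈ Finset.range c.e, mlt c hC j χ

theorem mul_fixd (χ : Cfsg.IrrCharacter G) :
    (p : ℂ) * (fixd c hC χ : ℂ) = (Cfsg.charDegree (χ : G → ℂ) : ℂ) +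
      ∑ w : (ZMod p)ˣ, conj ((χ : G → ℂ) (x ^ (w : ZMod p).val)) := by
  rw [fixd, Nat.cast_sum, Finset.sum_congr rfl fun j _ => (mlt_spec c hC j χ).symm,
    c.sum_inner_theta hC (isClassFunction_irr χ), sum_zmod_split, ZMod.val_zero, pow_zero,
    DegreeBounds.Basic.charDegree_irr, map_natCast]

theorem mlt_one {j : ℕ} (hj : j < c.e) : mlt c hC j (oneChar G) = if j = 0 then 1 else 0 := by
  have h := c.inner_theta hC (isClassFunction_irr (oneChar G)) j
  rw [mlt_spec] at h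
  simp only [oneChar_apply, map_one, Finset.sum_const, Finset.card_univ, ZMod.card, nsmul_eq_mul,
    mul_one, one_mul] at h
  have h' : ((c.e * p : ℕ) : ℂ) * mlt c hC j (oneChar G) =
      (p : ℂ) * ∑ k ∈ Finset.range c.e, c.ω ^ (j * k) := by
    rw [h, ← Finset.add_sum_erase _ _ (Finset.mem_range.mpr c.e_pos), mul_zero, pow_zero]
    ring
  split_ifs with hj0
  · subst hj0
    simp only [zero_mul, pow_zero, Finset.sum_const, Finset.card_range, nsmul_eq_mul, mul_one] at h'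
    have : c.e * p * mlt c hC 0 (oneChar G) = p * c.e := by exact_mod_cast h'
    rw [mul_comm p c.e] at this
    exact (Nat.mul_eq_left (Nat.mul_pos c.e_pos (Fact.out : p.Prime).pos).ne').mp this
  · simp only [pow_mul] at h'
    rw [geom_sum_eq (c.ω_spec.pow_ne_one_of_pos_of_lt hj0 hj), ← pow_mul, mul_comm j, pow_mul,
      c.ω_spec.pow_eq_one, one_pow, sub_self, zero_div, mul_zero, mul_eq_zero] at h'
    rcases h' with h' | h'
    · exact absurd (Nat.cast_eq_zero.mp h') (Nat.mul_pos c.e_pos (Fact.out : p.Prime).pos).ne'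
    · exact Nat.cast_eq_zero.mp h'

/-- Fourier inversion on the powers of `g`. -/
theorem fourier {F : G → ℂ} (hF : Cfsg.IsClassFunction G F) {k : ℕ} (hk0 : k ≠ 0) (hk : k < c.e) :
    ∑ j ∈ Finset.range c.e, c.ω ^ (j * (c.e - k)) * Cfsg.classInner (c.theta hC j) F =
      conj (F (c.g ^ k)) := by
  classical
  have hp0 : (p : ℂ) ≠ 0 := Nat.cast_ne_zero.mpr (Fact.out : p.Prime).ne_zero
  have he0 : (c.e : ℂ) ≠ 0 := Nat.cast_ne_zero.mpr c.e_pos.ne'
  have hgeom : ∀ l, l < c.e →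
      ∑ j ∈ Finset.range c.e, c.ω ^ (j * (c.e - k)) * c.ω ^ (j * l) =
        if l = k then (c.e : ℂ) else 0 := by
    intro l hl
    rw [Finset.sum_congr rfl fun j _ => by rw [← pow_add, ← mul_add, mul_comm, pow_mul]]
    split_ifs with h
    · subst h
      rw [Nat.sub_add_cancel hk.le, c.ω_spec.pow_eq_one]; simp
    · have hne : c.ω ^ (c.e - k + l) ≠ 1 := by
        intro h1
        obtain ⟨d, hd⟩ := (c.ω_spec.pow_eq_one_iff_dvd _).mp h1
        rcases Nat.lt_or_ge d 2 with hd2 | hd2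
        · interval_cases d <;> omega
        · have := Nat.mul_le_mul_left c.e hd2; omega
      rw [geom_sum_eq hne, ← pow_mul, mul_comm, pow_mul, c.ω_spec.pow_eq_one, one_pow, sub_self,
        zero_div]
  refine mul_left_cancel₀ (mul_ne_zero he0 hp0) ?_
  calc (c.e : ℂ) * p * _
      = ∑ j ∈ Finset.range c.e, c.ω ^ (j * (c.e - k)) *
          (((c.e * p : ℕ) : ℂ) * Cfsg.classInner (c.theta hC j) F) := by
        rw [Finset.mul_sum]
        exact Finset.sum_congr rfl fun j _ => by push_cast; ring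
    _ = _ := by
        simp only [c.inner_theta hC hF, mul_add, Finset.sum_add_distrib]
        have hz : ∑ j ∈ Finset.range c.e, c.ω ^ (j * (c.e - k)) = 0 := by
          have := hgeom 0 c.e_pos
          rw [if_neg (Ne.symm hk0)] at this
          simpa using this
        rw [← Finset.sum_mul, hz, zero_mul, zero_add]
        simp only [Finset.mul_sum]
        rw [Finset.sum_comm, Finset.sum_eq_single k]
        · rw [Finset.sum_congr rfl fun j _ => show c.ω ^ (j * (c.e - k)) *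
              ((p : ℂ) * (conj (F (c.g ^ k)) * c.ω ^ (j * k))) =
            ((p : ℂ) * conj (F (c.g ^ k))) * (c.ω ^ (j * (c.e - k)) * c.ω ^ (j * k)) by ring,
            ← Finset.mul_sum, hgeom k hk, if_pos rfl]
          ring
        · intro l hl hne
          rw [Finset.sum_congr rfl fun j _ => show c.ω ^ (j * (c.e - k)) *
              ((p : ℂ) * (conj (F (c.g ^ l)) * c.ω ^ (j * l))) =
            ((p : ℂ) * conj (F (c.g ^ l))) * (c.ω ^ (j * (c.e - k)) * c.ω ^ (j * l)) by ring,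
            ← Finset.mul_sum, hgeom l (Finset.mem_range.mp (Finset.mem_erase.mp hl).2),
            if_neg hne, mul_zero]
        · intro h
          exact absurd (Finset.mem_erase.mpr ⟨hk0, Finset.mem_range.mpr hk⟩) h

theorem apply_of_fixd_zero {χ : Cfsg.IrrCharacter G} (h : fixd c hC χ = 0) {k : ℕ} (hk0 : k ≠ 0)
    (hk : k < c.e) : (χ : G → ℂ) (c.g ^ k) = 0 := by
  have h0 := Finset.sum_eq_zero_iff.mp h
  have hf := fourier c hC (isClassFunction_irr χ) hk0 hk
  rw [Finset.sum_eq_zero fun j hj => by rw [mlt_spec, h0 j hj, Nat.cast_zero, mul_zero]] at hf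
  exact (map_eq_zero _).mp hf.symm

theorem apply_of_fixd_one {χ : Cfsg.IrrCharacter G} (h : fixd c hC χ = 1) :
    ∃ j₀ < c.e, (∀ j < c.e, mlt c hC j χ = if j = j₀ then 1 else 0) ∧
      ∀ k, k ≠ 0 → k < c.e → (χ : G → ℂ) (c.g ^ k) = c.ω ^ (j₀ * k) := by
  classical
  obtain ⟨j₀, hj₀, hne⟩ := Finset.exists_ne_zero_of_sum_ne_zero
    (show ∑ j ∈ Finset.range c.e, mlt c hC j χ ≠ 0 by rw [fixd] at h; omega)
  have hsplit := Finset.add_sum_erase _ (fun j => mlt c hC j χ) hj₀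
  rw [fixd] at h
  rw [h] at hsplit
  have hrest : ∀ j ∈ (Finset.range c.e).erase j₀, mlt c hC j χ = 0 :=
    Finset.sum_eq_zero_iff.mp (by omega)
  have hm : ∀ j < c.e, mlt c hC j χ = if j = j₀ then 1 else 0 := by
    intro j hj
    split_ifs with he
    · subst he; omega
    · exact hrest j (Finset.mem_erase.mpr ⟨he, Finset.mem_range.mpr hj⟩)
  refine ⟨j₀, Finset.mem_range.mp hj₀, hm, fun k hk0 hk => ?_⟩
  have hf := fourier c hC (isClassFunction_irr χ) hk0 hk
  rw [Finset.sum_congr rfl fun j hj => by rw [mlt_spec, hm j (Finset.mem_range.mp hj)]] at hf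
  simp only [Nat.cast_ite, Nat.cast_one, Nat.cast_zero, mul_ite, mul_one, mul_zero,
    Finset.sum_ite_eq', if_pos hj₀] at hf
  have h2 := congrArg conj hf
  rw [Complex.conj_conj, map_pow] at h2
  rw [← h2]
  have hω : conj c.ω * c.ω = 1 := by
    rw [mul_comm, Complex.mul_conj, Complex.normSq_eq_norm_sq,
      c.ω_spec.norm'_eq_one c.e_pos.ne']
    simp
  have hinv : conj c.ω ^ (j₀ * c.e) = 1 := by
    rw [mul_comm, pow_mul, ← map_pow, c.ω_spec.pow_eq_one, map_one, one_pow]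
  calc conj c.ω ^ (j₀ * (c.e - k))
      = conj c.ω ^ (j₀ * (c.e - k)) * (conj c.ω * c.ω) ^ (j₀ * k) := by rw [hω, one_pow, mul_one]
    _ = conj c.ω ^ (j₀ * c.e) * c.ω ^ (j₀ * k) := by
        rw [mul_pow, ← mul_assoc, ← pow_add, ← mul_add, Nat.sub_add_cancel hk.le]
    _ = _ := by rw [hinv, one_mul]

variable (Φ : Fam hx)

/-- The common degree of the exceptional characters. -/
noncomputable abbrev Fam.d : ℕ := Cfsg.charDegree (Φ.Y 1 : G → ℂ)

theorem Fam.deg_Y (q : Cls hx) : Cfsg.charDegree (Φ.Y q : G → ℂ) = Φ.d := by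
  have h := Φ.regY q 1 not_dvd_one
  rw [DegreeBounds.Basic.charDegree_irr, DegreeBounds.Basic.charDegree_irr] at h
  exact_mod_cast h

theorem Fam.deg_R {χ : Cfsg.IrrCharacter G} (hχ : χ ∈ Φ.R) :
    (Cfsg.charDegree (χ : G → ℂ) : ZMod p) = Φ.a χ :=
  degree_of_const (pow_eq_one_of_order hx) χ (Φ.valR χ hχ)

theorem Fam.deg_one : Cfsg.charDegree ((oneChar G : Cfsg.IrrCharacter G) : G → ℂ) = 1 := by
  have := DegreeBounds.Basic.charDegree_irr (oneChar G)
  rw [oneChar_apply] at this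
  exact_mod_cast this.symm

theorem Fam.fixd_R {χ : Cfsg.IrrCharacter G} (hχ : χ ∈ Φ.R) :
    (p : ℤ) * fixd c hC χ = Cfsg.charDegree (χ : G → ℂ) + ((p : ℤ) - 1) * Φ.a χ := by
  have h := mul_fixd c hC χ
  rw [Finset.sum_congr rfl fun w _ => by rw [Φ.valR χ hχ w, map_intCast], Finset.sum_const,
    Finset.card_univ, ZMod.card_units, nsmul_eq_mul] at h
  have h' : (((p : ℤ) * fixd c hC χ : ℤ) : ℂ) =
      (((Cfsg.charDegree (χ : G → ℂ) : ℤ) + ((p : ℤ) - 1) * Φ.a χ : ℤ) : ℂ) := by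
    push_cast [Nat.cast_sub (Fact.out : p.Prime).one_le] at h ⊢
    linear_combination h
  exact_mod_cast h'

theorem Fam.fixd_Y (q : Cls hx) : (p : ℤ) * fixd c hC (Φ.Y q) = Φ.d - Φ.δ * c.e := by
  classical
  have := Fintype.ofFinite (autE (pow_eq_one_of_order hx))
  have := Fintype.ofFinite (Cls hx)
  have h := mul_fixd c hC (Φ.Y q)
  rw [← map_sum, Finset.sum_congr rfl fun w _ => Φ.valY q w, ← Finset.mul_sum, sum_eta_units,
    Φ.deg_Y, map_mul, map_intCast, map_neg, map_natCast, ← Nat.card_eq_fintype_card] at h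
  have h' : (((p : ℤ) * fixd c hC (Φ.Y q) : ℤ) : ℂ) = (((Φ.d : ℤ) - Φ.δ * c.e : ℤ) : ℂ) := by
    push_cast at h ⊢
    linear_combination h
  exact_mod_cast h'

theorem Fam.fixd_other {χ : Cfsg.IrrCharacter G} (h : χ ∉ Φ.R) (h' : ∀ q, Φ.Y q ≠ χ) :
    p * fixd c hC χ = Cfsg.charDegree (χ : G → ℂ) := by
  have hh := mul_fixd c hC χ
  rw [Finset.sum_eq_zero fun w _ => by rw [Φ.valO χ h h' w, map_zero], add_zero] at hh
  exact_mod_cast hh

theorem Fam.other_pos {χ : Cfsg.IrrCharacter G} (h : χ ∉ Φ.R) (h' : ∀ q, Φ.Y q ≠ χ) :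
    1 ≤ fixd c hC χ := by
  have := Φ.fixd_other c hC h h'
  have := DegreeBounds.Basic.charDegree_pos χ
  by_contra hc
  have : fixd c hC χ = 0 := by omega
  simp_all

theorem Fam.plus (hperf : commutator G = ⊤) {χ : Cfsg.IrrCharacter G} (hχ : χ ∈ Φ.R)
    (hne : χ ≠ oneChar G) (ha : Φ.a χ = 1) :
    2 ≤ fixd c hC χ ∧ (Cfsg.charDegree (χ : G → ℂ) : ℤ) = p * fixd c hC χ - (p - 1) := by
  have h := Φ.fixd_R c hC hχ
  rw [ha, mul_one] at h
  have h1 : Cfsg.charDegree (χ : G → ℂ) ≠ 1 :=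
    fun he => hne (charDegree_eq_one_of_perfect hperf χ he)
  have h0 := DegreeBounds.Basic.charDegree_pos χ
  refine ⟨?_, by omega⟩
  by_contra hc
  have hp := (Fact.out : p.Prime).pos
  interval_cases hf : fixd c hC χ <;> omega

theorem Fam.minus {χ : Cfsg.IrrCharacter G} (hχ : χ ∈ Φ.R) (ha : Φ.a χ = -1) :
    (Cfsg.charDegree (χ : G → ℂ) : ℤ) = p * fixd c hC χ + (p - 1) := by
  have h := Φ.fixd_R c hC hχ
  rw [ha] at h
  omega

/-- The sum over all characters, split. -/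
theorem Fam.sum_split [Fintype (Cfsg.IrrCharacter G)] [Fintype (Cls hx)]
    [DecidableEq (Cfsg.IrrCharacter G)] {M : Type*} [AddCommMonoid M] (f : Cfsg.IrrCharacter G → M) :
    ∑ χ, f χ = ∑ χ ∈ Φ.R, f χ + ∑ q, f (Φ.Y q) +
      ∑ χ ∈ (Φ.R ∪ Finset.univ.image Φ.Y)ᶜ, f χ := by
  rw [← Finset.sum_add_sum_compl (Φ.R ∪ Finset.univ.image Φ.Y) f, Finset.sum_union,
    Finset.sum_image Φ.Y_inj.injOn]
  rw [Finset.disjoint_left]
  intro χ hχ hY
  obtain ⟨q, -, hq⟩ := Finset.mem_image.mp hY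
  exact Φ.Y_notR q (hq ▸ hχ)

/-- The coefficients of a relation among the periods. -/
theorem coeff_const [Fintype (autE (pow_eq_one_of_order hx))] [Fintype (Cls hx)]
    {b : Cls hx → ℤ} {k : ℤ}
    (h : ∀ w : (ZMod p)ˣ, ∑ q, (b q : ℂ) * eta _ (q * QuotientGroup.mk w) = k) (q : Cls hx) :
    b q = -k := by
  classical
  have hinv := Family.inversion _ b q
  have hrep : ∀ r : Cls hx,
      ∑ q, ((b q : ℤ) : ℂ) * eta (autE (pow_eq_one_of_order hx)) (q * r) = k := by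
    intro r
    obtain ⟨w, rfl⟩ := QuotientGroup.mk_surjective r
    exact h w
  simp only [hrep, ← Finset.mul_sum, Finset.sum_sub_distrib, Finset.sum_const, Finset.card_univ,
    nsmul_eq_mul, ← map_sum] at hinv
  rw [show ∑ r, eta (autE (pow_eq_one_of_order hx)) (q * r) = -1 by
    rw [← sum_eta_shift (autE (pow_eq_one_of_order hx)) q]
    exact Finset.sum_congr rfl fun r _ => by rw [mul_comm q], map_neg, map_one] at hinv
  have hte : (Fintype.card (Cls hx) : ℂ) *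
      (Fintype.card (autE (pow_eq_one_of_order hx)) : ℂ) = (p : ℂ) - 1 := by
    rw [← Nat.cast_mul, card_mul_card, Nat.cast_sub (Fact.out : p.Prime).one_le, Nat.cast_one]
  have h' : (p : ℂ) * (b q : ℂ) = (p : ℂ) * ((-k : ℤ) : ℂ) := by
    rw [← hinv]; push_cast; linear_combination (-(k : ℂ)) * hte
  exact_mod_cast mul_left_cancel₀ (Nat.cast_ne_zero.mpr (Fact.out : p.Prime).ne_zero) h'

/-- The expansion of a character. -/
theorem expand [Fintype (Cfsg.IrrCharacter G)] {F : G → ℂ} (hF : Cfsg.IsCharacter G F) :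
    ∃ m : Cfsg.IrrCharacter G → ℕ,
      (∀ χ : Cfsg.IrrCharacter G, Cfsg.classInner F (χ : G → ℂ) = m χ) ∧
      (∀ y, F y = ∑ χ, (m χ : ℂ) * (χ : G → ℂ) y) ∧
      ∀ j, Cfsg.classInner (c.theta hC j) F = ((∑ χ, m χ * mlt c hC j χ : ℕ) : ℂ) := by
  classical
  choose m hm using fun χ : Cfsg.IrrCharacter G => exists_classInner_nat hF (isCharacter_irr χ)
  have hFsum : F = ∑ χ : Cfsg.IrrCharacter G, (m χ : ℂ) • (χ : G → ℂ) := by
    conv_lhs => rw [Characters.Complete.classFunction_eq_sum (isClassFunction_of_isCharacter hF)]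
    exact Finset.sum_congr rfl fun χ _ => by rw [hm]
  refine ⟨m, hm, fun y => by rw [hFsum, Finset.sum_apply]; rfl, fun j => ?_⟩
  conv_lhs => rw [hFsum, classInner_sum_right]
  rw [Nat.cast_sum]
  refine Finset.sum_congr rfl fun χ _ => ?_
  rw [Induced.Basic.classInner_smul_right, mlt_spec, map_natCast, Nat.cast_mul]

/-- Inner products of expansions. -/
theorem inner_expand [Fintype (Cfsg.IrrCharacter G)] {F F' : G → ℂ}
    {m m' : Cfsg.IrrCharacter G → ℕ}
    (hm : ∀ χ : Cfsg.IrrCharacter G, Cfsg.classInner F (χ : G → ℂ) = m χ)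
    (hm' : ∀ y, F' y = ∑ χ, (m' χ : ℂ) * (χ : G → ℂ) y) :
    Cfsg.classInner F F' = ((∑ χ, m χ * m' χ : ℕ) : ℂ) := by
  rw [show F' = ∑ χ : Cfsg.IrrCharacter G, (m' χ : ℂ) • (χ : G → ℂ) from funext fun y => by
    rw [hm', Finset.sum_apply]; rfl, classInner_sum_right, Nat.cast_sum]
  refine Finset.sum_congr rfl fun χ _ => ?_
  rw [Induced.Basic.classInner_smul_right, hm, map_natCast, Nat.cast_mul, mul_comm]

/-- The value on `⟨x⟩` of an expansion. -/
theorem Fam.eval_x [Fintype (Cfsg.IrrCharacter G)] [Fintype (Cls hx)] {F : G → ℂ}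
    {m : Cfsg.IrrCharacter G → ℕ} (hm : ∀ y, F y = ∑ χ, (m χ : ℂ) * (χ : G → ℂ) y)
    (w : (ZMod p)ˣ) :
    F (x ^ (w : ZMod p).val) = ((∑ χ ∈ Φ.R, Φ.a χ * (m χ : ℤ) : ℤ) : ℂ) +
      ∑ q, (Φ.δ : ℂ) * (m (Φ.Y q) : ℂ) * eta _ (q * QuotientGroup.mk w) := by
  classical
  rw [hm, Φ.sum_split, Finset.sum_congr rfl fun χ hχ => by rw [Φ.valR χ hχ w],
    Finset.sum_congr (s₁ := Finset.univ) rfl fun q _ => by rw [Φ.valY q w],
    Finset.sum_eq_zero (s := (_ : Finset (Cfsg.IrrCharacter G))ᶜ) fun χ hχ => by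
      simp only [Finset.mem_compl, Finset.mem_union, Finset.mem_image, Finset.mem_univ, true_and,
        not_or, not_exists] at hχ
      rw [Φ.valO χ hχ.1 hχ.2 w, mul_zero], add_zero]
  push_cast
  congr 1
  · exact Finset.sum_congr rfl fun χ _ => mul_comm _ _
  · exact Finset.sum_congr rfl fun q _ => by ring

/-- What a character given on `⟨x⟩` by periods says about its constituents. -/
theorem Fam.coeffs [Fintype (Cfsg.IrrCharacter G)] [Fintype (autE (pow_eq_one_of_order hx))]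
    [Fintype (Cls hx)] {F : G → ℂ} {m : Cfsg.IrrCharacter G → ℕ}
    (hm : ∀ y, F y = ∑ χ, (m χ : ℂ) * (χ : G → ℂ) y) (C : ℤ) (n : Cls hx → ℤ)
    (hval : ∀ w : (ZMod p)ˣ, F (x ^ (w : ZMod p).val) =
      C + ∑ q, (n q : ℂ) * eta _ (q * QuotientGroup.mk w)) :
    ∃ k : ℤ, (∀ q, Φ.δ * (m (Φ.Y q) : ℤ) = n q + k) ∧
      ∑ χ ∈ Φ.R, Φ.a χ * (m χ : ℤ) = C + k := by
  classical
  set S := ∑ χ ∈ Φ.R, Φ.a χ * (m χ : ℤ) with hS
  have hrel : ∀ w : (ZMod p)ˣ,
      ∑ q, (((Φ.δ * m (Φ.Y q) - n q : ℤ)) : ℂ) * eta _ (q * QuotientGroup.mk w) =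
        ((C - S : ℤ) : ℂ) := by
    intro w
    have h := hval w
    rw [Φ.eval_x hm w, ← hS] at h
    push_cast
    simp only [sub_mul, Finset.sum_sub_distrib]
    linear_combination h
  refine ⟨-(C - S), fun q => ?_, by ring⟩
  have := coeff_const hrel q
  linear_combination this

end Cfsg.Agent.Lib.FirstPower.SmallDegree
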